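import Groth.Agent.Par.K547.Fam
import Groth.Agent.Par.K547.GenFib
import Groth.Agent.Par.K545.CochImage
import Groth.Agent.Par.K545.Dyn
import Groth.Agent.S3978
import Groth.Agent.S3968
import Groth.Agent.S3989

/-!
# Parabolic subgroups and cocharacters over a valuation ring

A reductive group over a valuation ring whose generic fibre has a proper parabolic subgroup contains
a copy of `𝔾_m`.
-/

set_option autoImplicit false

universe u

open CategoryTheory MonoidalCategory CartesianMonoidalCategory MonObj GrpObj AlgebraicGeometry Limits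
open Groth.Agent.Sga3B Groth.Agent.Sga3B.Parab

namespace K672.AnisoPar

section One

variable {S : Scheme.{u}} {G : Over S} [GrpObj G]

/-- Every point belongs to `P_G(1)`. -/
lemma ptP_one {X : Over S} (g : X ⟶ G) : PtP (1 : Red.Gm S ⟶ G) g := by
  intro C _ c x
  refine ⟨linPr C c ≫ x ≫ g, ?_⟩
  have h1 : toLin C c ≫ linPr C c = gmPr C c := by
    ext1
    change Spec.map _ ≫ Spec.map _ = Spec.map _
    rw [← Spec.map_comp, ← CommRingCat.ofHom_comp]
    congr 2
    exact (Polynomial.toLaurentAlg (R := C)).comp_algebraMap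
  rw [reassoc_of% h1, orb, MonObj.comp_one, _root_.one_mul, inv_one, _root_.mul_one]

/-- `P_G(1) = G`. -/
lemma isIso_of_isDynP_one {P : Over S} [GrpObj P] {p : P ⟶ G}
    (hp : IsDynP (1 : Red.Gm S ⟶ G) p) : IsIso p := by
  obtain ⟨x, hx⟩ := (hp.iff_ptP G (𝟙 G)).2 (ptP_one _)
  have := hp.mono
  refine ⟨x, ?_, hx⟩
  rw [← cancel_mono p, Category.assoc, hx, Category.comp_id, Category.id_comp]

end One

open Groth.Agent.K547.GenFib

variable {V : Type u} [CommRing V] [IsDomain V]

instance connectedSpace_spec : ConnectedSpace ↥(Spec (CommRingCat.of V)) :=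
  inferInstanceAs (ConnectedSpace (PrimeSpectrum V))

/-- A non-trivial cocharacter over a connected base gives a copy of `𝔾_m`. -/
theorem exists_mono_of_ne_one {G : Over (Spec (CommRingCat.of V))} [GrpObj G] [IsAffineHom G.hom]
    [Smooth G.hom] (lam : Red.Gm (Spec (CommRingCat.of V)) ⟶ G) [IsMonHom lam] (h : lam ≠ 1) :
    ∃ i : Red.Gm (Spec (CommRingCat.of V)) ⟶ G, IsMonHom i ∧ Mono i := by
  rcases K545.CochImage.exists_sm lam with h1 | ⟨d, g, -, hg, hg', -⟩
  · exact absurd h1 h
  · exact ⟨g, hg, Over.mono_of_mono_left g⟩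

/-- The valuative criterion for sections. -/
lemma exists_section [ValuationRing V] {M : Scheme.{u}} (π : M ⟶ Spec (CommRingCat.of V)) [IsProper π]
    (g : Spec (CommRingCat.of (FractionRing V)) ⟶ M) (hg : g ≫ π = gen V) :
    ∃ l : Spec (CommRingCat.of V) ⟶ M, l ≫ π = 𝟙 _ ∧ gen V ≫ l = g := by
  have hM : IsProper π := inferInstance
  rw [IsProper.eq_valuativeCriterion] at hM
  have hex := ValuativeCriterion.existence hM.1.1.1
  let S : ValuativeCommSq π :=
    { R := V
      K := FractionRing V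
      i₁ := g
      i₂ := 𝟙 _
      commSq := ⟨by rw [hg, Category.comp_id]⟩ }
  obtain ⟨⟨l⟩⟩ := hex S
  exact ⟨l.l, l.fac_right, l.fac_left⟩

/-- A reductive group over a valuation ring whose generic fibre has a proper parabolic subgroup contains a
copy of `𝔾_m`. -/
theorem exists_mono_of_parabolic [ValuationRing V] (G : Over (Spec (CommRingCat.of V))) [GrpObj G]
    (hG : Red.IsReductive G) {P₀ : Over (Spec (CommRingCat.of (FractionRing V)))} [GrpObj P₀]
    (p₀ : P₀ ⟶ Red.bc (gen V) G) (hp₀ : Red.IsParabolic p₀) (hi : ¬ IsIso p₀) :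
    ∃ i : Red.Gm (Spec (CommRingCat.of V)) ⟶ G, IsMonHom i ∧ Mono i := by
  have hGa := hG.1
  have hGs := hG.2.1
  obtain ⟨M, H, _, h, ⟨hh, huniv⟩, -, hM, -⟩ := Groth.Agent.S3978.result G hG
  have hcl : IsClosedImmersion h.left :=
    (Groth.Agent.S3968.result (RedBcAny636.isReductive_bc M.hom hG) h hh).1
  obtain ⟨g₀, ⟨hg₀, hs⟩, -⟩ := huniv _ (gen V) P₀ p₀
    (Groth.Agent.K547.Fam.isParabolicSub_of_isParabolic hp₀)
  obtain ⟨g, hg, hgg⟩ := exists_section M.hom g₀ hg₀
  obtain ⟨P, _, p, hp, hpt⟩ := Groth.Agent.K547.Fam.exists_sub hG h hh hcl g hg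
  subst hgg
  obtain ⟨e, he⟩ := Groth.Agent.K547.Fam.exists_iso_of_samePoints hp hpt (gen V) hp₀ hs
  have hni : ¬ IsIso p := by
    intro h1
    have h2 : IsIso ((Over.pullback (gen V)).map p) := inferInstance
    rw [← he] at h2
    exact hi (IsIso.of_isIso_comp_left e.hom p₀)
  obtain ⟨lam, hl, hlp⟩ := K545.Dyn.exists_cochar hG hp
  refine exists_mono_of_ne_one lam ?_
  rintro rfl
  exact hni (isIso_of_isDynP_one hlp)

end K672.AnisoPar
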