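import Groth.Agent.Red.K672.CochCoeff
import Groth.Agent.Par.K545.CochImage
import Groth.Agent.SGA3x.K7.MTQI
import Groth.Agent.Sga3B.RootBridge989
import Groth.Agent.Sga3B.AffHopf
import Groth.Agent.S16173

/-!
# Cocharacters of tori over a normal domain

A torus over an integrally closed domain whose generic fibre has a non-trivial cocharacter has a non-trivial
cocharacter.
-/

set_option autoImplicit false

universe u

open CategoryTheory MonoidalCategory CartesianMonoidalCategory MonObj GrpObj AlgebraicGeometry Limits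
open scoped LaurentPolynomial TensorProduct
open Groth.Agent.Books.AffBridge
open Groth.Agent.Sga3B Groth.Agent.Sga3B.Parab Groth.Agent.Sga3B.Parab.Chart998
open Groth.Agent.Sga3B.Parab.DynExist998
open Groth.Agent.Sga3B.RootBridge989

namespace K672.AnisoTor

section iso

variable {V : Type u} [CommRing V]

lemma isMT_of_isTorus {S : Scheme.{u}} {T : Over S} [GrpObj T] (hT : Red.IsTorus T) :
    K7.MTHaar.IsMT T := by
  obtain ⟨S', f, h1, h2, h3, h4⟩ := hT
  refine ⟨S', f, h1, h2, h3, fun s' => ?_⟩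
  obtain ⟨U, hU, r, h⟩ := h4 s'
  exact ⟨U, hU, Fin r → ℤ, inferInstance, h⟩

/-- The Hopf algebra of a torus over an integrally closed domain is isotrivial. -/
lemma isIsotrivial [IsDomain V] [IsIntegrallyClosed V] {T : Over (Spec (CommRingCat.of V))} [GrpObj T]
    (hT : Red.IsTorus T) {H : Type u} [CommRing H] [HopfAlgebra V H] (e : T ≅ SpecOver V H)
    [IsMonHom e.hom] : SGA3b.IsIsotrivial V H := by
  have hMT := isMT_of_isTorus hT
  have hm : SGA3b.IsMultType V H := K7.MTQI.isMultType_of_isMT hMT e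
  have hft : Algebra.FiniteType V H := by
    have : Smooth T.hom := TorusAlgClosed.smooth_of_isTorus hT
    have : Algebra.Smooth V H := AffHopf.smooth_of_iso e.symm
    infer_instance
  exact Groth.Agent.S16173.result V H hft hm

end iso

section alg

variable {K A : Type u} [Field K] [CommRing A] [HopfAlgebra K A]
  {G : Over (Spec (CommRingCat.of K))} [GrpObj G]

/-- The Hopf algebra homomorphism of a cocharacter, and when it is trivial. -/
lemma exists_bialgHom (e : G ≅ SpecOver K A) [IsMonHom e.hom]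
    (j : Red.Gm (Spec (CommRingCat.of K)) ⟶ G) [IsMonHom j] :
    ∃ φ : A →ₐc[K] K[T;T⁻¹],
      (∀ x, φ x = algebraMap K K[T;T⁻¹] (Coalgebra.counit (R := K) x)) → j = 1 := by
  refine ⟨lamB j (chartId e), fun h => ?_⟩
  apply hom_ext_lamAlg (chartId e)
  rw [K545.CochImage.lamAlg_one]
  exact AlgHom.ext h

lemma eq_counit {V H : Type u} [CommRing V] [Algebra V K] [CommRing H] [HopfAlgebra V H]
    (φ : K ⊗[V] H →ₐc[K] K[T;T⁻¹])
    (h : ∀ x : H, φ (1 ⊗ₜ x) = algebraMap K K[T;T⁻¹] (algebraMap V K (Coalgebra.counit (R := V) x)))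
    (z : K ⊗[V] H) : φ z = algebraMap K K[T;T⁻¹] (Coalgebra.counit (R := K) z) := by
  induction z using TensorProduct.induction_on with
  | zero => rw [map_zero, map_zero, map_zero]
  | add a b ha hb => rw [map_add, ha, hb, map_add, map_add]
  | tmul k x =>
    have h3 : k ⊗ₜ[V] x = k • ((1 : K) ⊗ₜ[V] x) := by
      rw [TensorProduct.smul_tmul', smul_eq_mul, _root_.mul_one]
    rw [h3, map_smul, map_smul, h, Algebra.smul_def, smul_eq_mul, map_mul]
    congr 2
    simp [Algebra.smul_def]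

end alg

section steps

variable {V K : Type u} [CommRing V] [Field K] [Algebra V K]
  {T : Over (Spec (CommRingCat.of V))} [GrpObj T] {H : Type u} [CommRing H] [HopfAlgebra V H]

lemma exists_ne_counit (j : Red.Gm (Spec (CommRingCat.of K)) ⟶ Red.bc (sm V K) T) [IsMonHom j]
    (hj : j ≠ 1) (e : T ≅ SpecOver V H) [IsMonHom e.hom] :
    ∃ φ : K ⊗[V] H →ₐc[K] K[T;T⁻¹],
      ¬ ∀ x, φ x = algebraMap K K[T;T⁻¹] (Coalgebra.counit (R := K) x) := by
  obtain ⟨φ, hφ⟩ := exists_bialgHom (A := K ⊗[V] H) (G := Red.bc (sm V K) T) (eK K e) j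
  exact ⟨φ, fun h => hj (hφ h)⟩

lemma exists_hom_of_ne_counit (e : T ≅ SpecOver V H) [IsMonHom e.hom] (ψ : H →ₐc[V] V[T;T⁻¹])
    (h : ¬ ∀ x, ψ x = algebraMap V V[T;T⁻¹] (Coalgebra.counit (R := V) x)) :
    ∃ f : Red.Gm (Spec (CommRingCat.of V)) ⟶ T, IsMonHom f ∧ f ≠ 1 := by
  refine ⟨K545.CochImage.ofB e (ψ : H →ₐ[V] V[T;T⁻¹]), K545.CochImage.isMonHom_ofB e ψ, ?_⟩
  intro h1
  refine h fun x => ?_
  have h2 : (ψ : H →ₐ[V] V[T;T⁻¹]) = (Algebra.ofId V V[T;T⁻¹]).comp (Bialgebra.counitAlgHom V H) := by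
    rw [← K545.CochImage.lamAlg_ofB e (ψ : H →ₐ[V] V[T;T⁻¹]), h1, K545.CochImage.lamAlg_one]
  exact congrArg (fun f => f x) h2

end steps

variable {V K : Type u} [CommRing V] [IsDomain V] [IsIntegrallyClosed V] [Field K] [Algebra V K]
  [IsFractionRing V K]

/-- A torus over an integrally closed domain whose generic fibre has a non-trivial cocharacter has a non-trivial
cocharacter. -/
theorem exists_ne_one (T : Over (Spec (CommRingCat.of V))) [GrpObj T] (hT : Red.IsTorus T)
    (j : Red.Gm (Spec (CommRingCat.of K)) ⟶ Red.bc (sm V K) T) [IsMonHom j] (hj : j ≠ 1) :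
    ∃ f : Red.Gm (Spec (CommRingCat.of V)) ⟶ T, IsMonHom f ∧ f ≠ 1 := by
  have hTa : IsAffineHom T.hom := TorusAlgClosed.isAffineHom_of_isTorus hT
  have : IsAffine T.left := isAffine_of_isAffineHom T.hom
  obtain ⟨H, _, _, i, hi⟩ := AffHopf.exists_hopf T
  have he : IsMonHom i.symm.hom := inferInstanceAs (IsMonHom i.inv)
  have hiso := isIsotrivial hT i.symm
  obtain ⟨φ, hφ⟩ := exists_ne_counit (H := H) j hj i.symm
  obtain ⟨ψ, hψ⟩ := K672.CochCoeff.exists_descend (K := K) hiso φ
  refine exists_hom_of_ne_counit i.symm ψ fun h => hφ (eq_counit φ fun x => ?_)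
  refine (hψ x).symm.trans ?_
  rw [h, AlgHom.commutes]
  rfl

end K672.AnisoTor
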