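import Groth.Agent.Red.K672.AnisoPar
import Groth.Agent.Red.K672.AnisoTor
import Groth.Agent.S4123
import Groth.Agent.Sga3B.MT.Final824
import Groth.Agent.Sga3B.TorClosed636
import Groth.Agent.Sga3B.Trans894
import Groth.Agent.Sga3C.SubGrp

/-!
# Anisotropic reductive groups over valuation rings stay anisotropic over the fraction field
-/

set_option autoImplicit false

universe u

open CategoryTheory MonoidalCategory CartesianMonoidalCategory MonObj GrpObj AlgebraicGeometry Limits
open Groth.Agent.Sga3B Groth.Agent.Sga3B.Parab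

namespace K672.AnisoMain

/-- The trivial cocharacter is not a monomorphism. -/
lemma not_mono_one {K : Type u} [Field K] {G : Over (Spec (CommRingCat.of K))} [GrpObj G] :
    ¬ Mono (1 : Red.Gm (Spec (CommRingCat.of K)) ⟶ G) := by
  intro h
  let c := 𝟙 (Spec (CommRingCat.of K))
  have h1 : tPt K c = (1 : gmo K c ⟶ Red.Gm (Spec (CommRingCat.of K))) := by
    rw [← cancel_mono (1 : Red.Gm (Spec (CommRingCat.of K)) ⟶ G), MonObj.comp_one, MonObj.comp_one]
  have h2 : tChar K c = 1 := by
    apply (DSPts.dsEquiv (S := Spec (CommRingCat.of K)) (gmo K c) ℤ).injective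
    rw [map_one]
    exact h1
  have h3 := DFunLike.congr_fun h2 (Multiplicative.ofAdd 1)
  have h4 := (ConcreteCategory.bijective_of_isIso
    (Scheme.ΓSpecIso (CommRingCat.of (LaurentPolynomial K))).inv).1
  have h5 : (LaurentPolynomial.T 1 : LaurentPolynomial K) = 1 := by
    apply h4
    refine Eq.trans ?_ (map_one (Scheme.ΓSpecIso (CommRingCat.of (LaurentPolynomial K))).inv.hom).symm
    exact h3
  rw [← LaurentPolynomial.T_zero] at h5
  have h6 := congrArg (K545.CochAlg.cf 0) h5
  rw [K545.CochAlg.cf_T, K545.CochAlg.cf_T, if_neg one_ne_zero, if_pos rfl] at h6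
  exact zero_ne_one h6

/-- Maximal tori exist over local rings. -/
theorem exists_maximalTorus {R : Type u} [CommRing R] [IsLocalRing R]
    {G : Over (Spec (CommRingCat.of R))} [GrpObj G] (hG : Red.IsReductive G) :
    ∃ (T : Over (Spec (CommRingCat.of R))) (_ : GrpObj T) (t : T ⟶ G), Red.IsMaximalTorus t := by
  have h : SplitGlue904.SplitTRed.{u} := SplitGlue904.splitTRed_of_aff
    fun hG i hT hs q => by
      obtain ⟨w, hw, D, hD, τ, hτ⟩ := SplitNhd885.splitAff hG i hT hs q
      exact ⟨w, hw, D, τ, hD, hτ⟩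
  have hR : {m : Ideal R | m.IsMaximal}.Finite := by
    refine (Set.finite_singleton (IsLocalRing.maximalIdeal R)).subset fun m hm => ?_
    exact IsLocalRing.eq_maximalIdeal hm
  obtain ⟨T, hT, t, ht, -⟩ := MT.exists_maximalTorus_semilocal hR hG
    (fun s => SplitGlue904.splitNear_of_red h G hG s)
  exact ⟨T, hT, t, ht⟩

open Groth.Agent.K547.GenFib

/-- Anisotropic reductive groups over valuation rings stay anisotropic over the fraction field. -/
theorem main (V : Type u) [CommRing V] [IsDomain V] [ValuationRing V]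
    (G : Over (Spec (CommRingCat.of V))) [GrpObj G] (hG : Red.IsReductive G)
    (han : ∀ (i : Red.Gm (Spec (CommRingCat.of V)) ⟶ G) [IsMonHom i], ¬ Mono i)
    (j : Red.Gm (Spec (CommRingCat.of (FractionRing V))) ⟶ Red.bc (gen V) G) [IsMonHom j] :
    ¬ Mono j := by
  intro hj
  have hGK : Red.IsReductive (Red.bc (gen V) G) := RedBcAny636.isReductive_bc (gen V) hG
  by_cases hc : ∀ (X X' : Over (Spec (CommRingCat.of (FractionRing V)))) (x : X' ⟶ X)
      (t : X ⟶ Red.Gm (Spec (CommRingCat.of (FractionRing V)))) (g : X' ⟶ Red.bc (gen V) G),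
      (x ≫ t ≫ j) * g = g * (x ≫ t ≫ j)
  · obtain ⟨T, _, t, ht⟩ := exists_maximalTorus hG
    have hmon : IsMonHom t := ht.1
    have hmo : Mono t := ht.2.1
    have htc : Red.IsCentralizerOf t t := TorClosed636.isCentralizerOf_self hG ht
    have htK : Red.IsMaximalTorus ((Over.pullback (gen V)).map t) :=
      SplitBc264.isMaximalTorus_bc (gen V) ht.2.2.1 htc
    have hcent := TorClosed636.isCentralizerOf_self hGK htK
    obtain ⟨j', hj'⟩ := (hcent.2.2 _ j).2 (fun X' x h => by
      have h1 := hc _ _ x (𝟙 _) (h ≫ (Over.pullback (gen V)).map t)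
      rwa [Category.id_comp] at h1)
    have hm1 : IsMonHom ((Over.pullback (gen V)).map t) := htK.1
    have hm2 : Mono ((Over.pullback (gen V)).map t) := htK.2.1
    have hmj : IsMonHom (j' ≫ (Over.pullback (gen V)).map t) := by rw [hj']; infer_instance
    have hmj' : IsMonHom j' := Groth.Agent.Sga3C.SubGrp.isMonHom_of_comp_mono j' ((Over.pullback (gen V)).map t)
    have hj1 : j' ≠ 1 := by
      rintro rfl
      rw [MonObj.one_comp] at hj'
      rw [← hj'] at hj
      exact not_mono_one hj
    obtain ⟨f, hf, hf1⟩ := AnisoTor.exists_ne_one T ht.2.2.1 j' hj1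
    have hTs : Smooth T.hom := TorusAlgClosed.smooth_of_isTorus ht.2.2.1
    have hTa : IsAffineHom T.hom := TorusAlgClosed.isAffineHom_of_isTorus ht.2.2.1
    obtain ⟨g, hg, hgm⟩ := AnisoPar.exists_mono_of_ne_one f hf1
    exact han (g ≫ t) inferInstance
  · obtain ⟨P₀, _, p₀, hp₀, hni⟩ := Groth.Agent.S3989.result hGK j ℤ
      (Trans894.isTorus_DS _ ℤ) ⟨Iso.refl _⟩ hc
    obtain ⟨i, hi, him⟩ := AnisoPar.exists_mono_of_parabolic G hG p₀ hp₀ hni
    exact han i him

end K672.AnisoMain
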