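import Groth.Agent.Sga3A.MTBasis
import Groth.Agent.Par.K545.CochAlg
import Groth.Prelude.Def_SGA3b
import Mathlib.RingTheory.HopfAlgebra.MonoidAlgebra
import Mathlib.Algebra.Polynomial.Laurent
import Mathlib.RingTheory.IntegralClosure.IntegrallyClosed

/-!
# Cocharacters of isotrivial groups over a normal domain

Let `V` be an integrally closed domain with fraction field `K` and `H` the Hopf algebra of an isotrivial group of
multiplicative type over `V`. Every homomorphism of Hopf algebras from `K ⊗ H` to `K[T, T⁻¹]` maps `H` to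
`V[T, T⁻¹]`: over a finite étale extension `V'` splitting the group the image of a group-like element
has idempotent coefficients, so that all coefficients are integral over `V`.
-/

set_option autoImplicit false

universe u

open TensorProduct LaurentPolynomial
open Groth.Agent.Sga3A Groth.Agent.Sga3A.MTBasis

namespace K672.CochCoeff

section Int

variable {V K V' H : Type u} [CommRing V] [Field K] [Algebra V K] [CommRing V'] [Algebra V V']
  [Algebra.IsIntegral V V'] [CommRing H] [HopfAlgebra V H]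
  {B : Type u} [CommRing B] [Bialgebra K B]

/-- The coefficients of the image of an element of `H` are integral. -/
theorem isIntegral_repr {M : Type u} {N : Type*} [CommGroup M] [CommGroup N] [Nontrivial (K ⊗[V] V')]
    (g : GBasis V' (V' ⊗[V] H) M) (gB : GBasis K B N) (φ : K ⊗[V] H →ₐc[K] B) (h : H) (n : N) :
    IsIntegral V (gB.b.repr (φ (1 ⊗ₜ h)) n) := by
  classical
  let L := K ⊗[V] V'
  let ι : V' →ₐ[V] L := Algebra.TensorProduct.includeRight
  have hinj : Function.Injective (algebraMap K L) := (algebraMap K L).injective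
  let gL : GBasis L (L ⊗[V] H) M := g.bc ι
  let gBL : GBasis L (L ⊗[K] B) N := gB.baseChange L
  let c := cancelBC V K L H
  let Φ₀ : L ⊗[K] (K ⊗[V] H) →ₐc[L] L ⊗[K] B := Bialgebra.TensorProduct.map (BialgHom.id L L) φ
  have hΦ : ∀ x : K ⊗[V] H, Φ₀ (1 ⊗ₜ x) = 1 ⊗ₜ φ x := fun x => rfl
  have hc : c (1 ⊗ₜ[K] ((1 : K) ⊗ₜ[V] h)) = (1 : L) ⊗ₜ[V] h := by
    rw [cancelBC_one_tmul]
    rw [bc_tmul, map_one]
  have hc' : c.symm ((1 : L) ⊗ₜ[V] h) = 1 ⊗ₜ[K] ((1 : K) ⊗ₜ[V] h) := by
    rw [← hc]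
    exact c.symm_apply_apply _
  let Φ : L ⊗[V] H →ₐc[L] L ⊗[K] B := Φ₀.comp (c.symm : L ⊗[V] H →ₐc[L] L ⊗[K] (K ⊗[V] H))
  have hΦh : Φ ((1 : L) ⊗ₜ[V] h) = 1 ⊗ₜ φ (1 ⊗ₜ h) := by
    have h0 : Φ ((1 : L) ⊗ₜ[V] h) = Φ₀ (c.symm ((1 : L) ⊗ₜ[V] h)) := rfl
    rw [h0, hc', hΦ]
  -- the idempotent coefficients
  have hid : ∀ m : M, IsIntegral V (gBL.b.repr (Φ (gL.b m)) n) := by
    intro m
    have h1 : IsGroupLikeElem L (Φ (gL.b m)) := (gL.gl m).map Φ
    have h2 := gBL.repr_mul_repr h1 n n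
    rw [if_pos rfl] at h2
    refine ⟨Polynomial.X ^ 2 - Polynomial.X, ?_, ?_⟩
    · monicity!
    · simp only [Polynomial.eval₂_sub, Polynomial.eval₂_pow, Polynomial.eval₂_X]
      rw [pow_two, h2, sub_self]
  -- the coefficient
  have key : gBL.b.repr (Φ ((1 : L) ⊗ₜ[V] h)) n =
      (g.b.repr ((1 : V') ⊗ₜ[V] h)).sum fun m v => ι v * gBL.b.repr (Φ (gL.b m)) n := by
    have h3 : (1 : L) ⊗ₜ[V] h = bc H ι ((1 : V') ⊗ₜ[V] h) := by rw [bc_tmul, map_one]
    have h4 : (1 : L) ⊗ₜ[V] h = (g.b.repr ((1 : V') ⊗ₜ[V] h)).sum fun m v => ι v • gL.b m := by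
      rw [← gL.b.linearCombination_repr ((1 : L) ⊗ₜ[V] h)]
      rw [Finsupp.linearCombination_apply]
      have h5 : gL.b.repr ((1 : L) ⊗ₜ[V] h) =
          Finsupp.mapRange ι (map_zero ι) (g.b.repr ((1 : V') ⊗ₜ[V] h)) := by
        ext m
        rw [h3, GBasis.bc_repr, Finsupp.mapRange_apply]
      rw [h5, Finsupp.sum_mapRange_index]
      intro m
      rw [zero_smul]
    rw [h4]
    simp only [Finsupp.sum, map_sum, map_smul, Finsupp.coe_finsetSum, Finset.sum_apply,
      Finsupp.smul_apply, smul_eq_mul]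
  have h5 : IsIntegral V (gBL.b.repr (Φ ((1 : L) ⊗ₜ[V] h)) n) := by
    rw [key]
    refine IsIntegral.sum _ fun m _ => IsIntegral.mul ?_ (hid m)
    exact (Algebra.IsIntegral.isIntegral (R := V) _).map ι
  rw [hΦh] at h5
  have h6 : gBL.b.repr ((1 : L) ⊗ₜ[K] φ (1 ⊗ₜ h)) n =
      algebraMap K L (gB.b.repr (φ (1 ⊗ₜ h)) n) := by
    change (gB.b.baseChange L).repr _ n = _
    rw [Module.Basis.baseChange_repr_tmul]
    rw [Algebra.smul_def, _root_.mul_one]
  rw [h6] at h5
  exact (isIntegral_algebraMap_iff hinj).1 h5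

end Int

section Desc

open K545.CochAlg

variable (V K : Type u) [CommRing V] [Field K] [Algebra V K]

/-- The basis of `K[T, T⁻¹]`. -/
noncomputable def bT : Module.Basis (Multiplicative ℤ) K K[T;T⁻¹] :=
  .ofRepr ((AddMonoidAlgebra.coeffLinearEquiv K).trans (Finsupp.domLCongr Multiplicative.ofAdd))

lemma bT_repr (p : K[T;T⁻¹]) (n : Multiplicative ℤ) : (bT K).repr p n = cf n.toAdd p := rfl

lemma bT_apply (n : Multiplicative ℤ) : bT K n = T n.toAdd := by
  apply (bT K).repr.injective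
  ext m
  rw [(bT K).repr_self, bT_repr, cf_T, Finsupp.single_apply]
  rfl

/-- The group-like basis of `K[T, T⁻¹]`. -/
noncomputable def gT : GBasis K K[T;T⁻¹] (Multiplicative ℤ) where
  b := bT K
  one := by rw [bT_apply, toAdd_one, T_zero]
  mul m n := by rw [bT_apply, bT_apply, bT_apply, toAdd_mul, T_add]
  gl m := by
    rw [bT_apply]
    exact ⟨LaurentPolynomial.counit_T _, LaurentPolynomial.comul_T _⟩

/-- Extension of scalars for Laurent polynomials. -/
noncomputable def mT : V[T;T⁻¹] →ₐ[V] K[T;T⁻¹] := AddMonoidAlgebra.mapAlgHom ℤ (Algebra.ofId V K)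

lemma cf_mT (n : ℤ) (p : V[T;T⁻¹]) : cf n (mT V K p) = algebraMap V K (cf n p) := rfl

lemma mT_T (n : ℤ) : mT V K (T n) = T n := by
  apply (bT K).repr.injective
  ext m
  rw [bT_repr, bT_repr, cf_mT, cf_T, cf_T]
  split_ifs
  · exact map_one _
  · exact map_zero _

lemma ext_cf {p q : K[T;T⁻¹]} (h : ∀ n, cf n p = cf n q) : p = q := by
  apply (bT K).repr.injective
  ext m
  exact h _

/-- `V[T, T⁻¹] ⊗ V[T, T⁻¹] → K[T, T⁻¹] ⊗ K[T, T⁻¹]`. -/
noncomputable def mTT : V[T;T⁻¹] ⊗[V] V[T;T⁻¹] →ₐ[V] K[T;T⁻¹] ⊗[K] K[T;T⁻¹] :=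
  Algebra.TensorProduct.lift
    (((Algebra.TensorProduct.includeLeft : K[T;T⁻¹] →ₐ[K] K[T;T⁻¹] ⊗[K] K[T;T⁻¹]).restrictScalars V).comp
      (mT V K))
    (((Algebra.TensorProduct.includeRight : K[T;T⁻¹] →ₐ[K] K[T;T⁻¹] ⊗[K] K[T;T⁻¹]).restrictScalars V).comp
      (mT V K))
    (fun _ _ => Commute.all _ _)

lemma mTT_tmul (p q : V[T;T⁻¹]) : mTT V K (p ⊗ₜ q) = mT V K p ⊗ₜ mT V K q := by
  rw [mTT, Algebra.TensorProduct.lift_tmul]
  change (mT V K p ⊗ₜ[K] 1) * (1 ⊗ₜ[K] mT V K q) = _
  rw [Algebra.TensorProduct.tmul_mul_tmul, _root_.mul_one, _root_.one_mul]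

lemma comul_mT (p : V[T;T⁻¹]) :
    Coalgebra.comul (R := K) (mT V K p) = mTT V K (Coalgebra.comul (R := V) p) := by
  induction p using LaurentPolynomial.induction_on' with
  | add p q hp hq => rw [map_add, map_add, hp, hq, map_add, map_add]
  | C_mul_T m a =>
    rw [smul_T, map_smul (mT V K), mT_T, ← algebraMap_smul K a (T m : K[T;T⁻¹]), map_smul,
      LaurentPolynomial.comul_T, map_smul (Coalgebra.comul (R := V)), LaurentPolynomial.comul_T,
      map_smul (mTT V K), mTT_tmul, mT_T, algebraMap_smul]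

lemma counit_mT (p : V[T;T⁻¹]) :
    Coalgebra.counit (R := K) (mT V K p) = algebraMap V K (Coalgebra.counit (R := V) p) := by
  induction p using LaurentPolynomial.induction_on' with
  | add p q hp hq => rw [map_add, map_add, hp, hq, map_add, map_add]
  | C_mul_T m a =>
    rw [smul_T, map_smul (mT V K), mT_T, ← algebraMap_smul K a (T m : K[T;T⁻¹]), map_smul,
      LaurentPolynomial.counit_T, map_smul (Coalgebra.counit (R := V)), LaurentPolynomial.counit_T,
      smul_eq_mul, smul_eq_mul, _root_.mul_one, _root_.mul_one]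

variable (hinj : Function.Injective (algebraMap V K))

include hinj

lemma mT_injective : Function.Injective (mT V K) := by
  intro p q h
  have : ∀ n, cf n p = cf n q := fun n => hinj (by rw [← cf_mT, ← cf_mT, h])
  ext n
  exact this n

lemma mTT_injective : Function.Injective (mTT V K) := by
  classical
  let bV : Module.Basis ℤ V V[T;T⁻¹] := .ofRepr (AddMonoidAlgebra.coeffLinearEquiv V)
  have hbV : ∀ n, bV n = T n := by
    intro n
    apply bV.repr.injective
    ext m
    rw [bV.repr_self, Finsupp.single_apply]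
    exact (cf_T m n).symm
  let F : ℤ → ℤ → (K[T;T⁻¹] ⊗[K] K[T;T⁻¹] →ₗ[K] K) := fun a b =>
    (TensorProduct.lid K K).toLinearMap ∘ₗ TensorProduct.map (cf a) (cf b)
  have hF : ∀ a b (x : V[T;T⁻¹] ⊗[V] V[T;T⁻¹]), F a b (mTT V K x) =
      algebraMap V K ((bV.tensorProduct bV).repr x (a, b)) := by
    intro a b x
    induction x using TensorProduct.induction_on with
    | zero => simp
    | add x y hx hy => rw [map_add, map_add, hx, hy, map_add, Finsupp.add_apply, map_add]
    | tmul p q =>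
      rw [mTT_tmul, Module.Basis.tensorProduct_repr_tmul_apply]
      change (cf a (mT V K p)) • (cf b (mT V K q)) = algebraMap V K (cf b q • cf a p)
      rw [cf_mT, cf_mT, smul_eq_mul, smul_eq_mul, map_mul, mul_comm]
  rw [injective_iff_map_eq_zero]
  intro x hx
  apply (bV.tensorProduct bV).repr.injective
  ext ⟨a, b⟩
  apply hinj
  rw [← hF, hx, map_zero, map_zero, Finsupp.zero_apply, map_zero]

end Desc

section Main

open K545.CochAlg

variable {V K H : Type u} [CommRing V] [IsIntegrallyClosed V] [Field K] [Algebra V K]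
  [IsFractionRing V K] [CommRing H] [HopfAlgebra V H]

/-- Over a normal domain every cocharacter of the generic fibre of an isotrivial group extends. -/
theorem exists_descend (hiso : SGA3b.IsIsotrivial V H) (φ : K ⊗[V] H →ₐc[K] K[T;T⁻¹]) :
    ∃ ψ : H →ₐc[V] V[T;T⁻¹], ∀ h, mT V K (ψ h) = φ (1 ⊗ₜ h) := by
  obtain ⟨V', _, _, _, _, _, M, _, ⟨e⟩⟩ := hiso
  have hinj : Function.Injective (algebraMap V K) := IsFractionRing.injective V K
  have hnt : Nontrivial (K ⊗[V] V') := by
    have h1 := Module.FaithfullyFlat.tensorProduct_mk_injective (A := V) (B := V') K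
    exact ((TensorProduct.comm V V' K).injective.comp h1).nontrivial
  have hco : ∀ h n, ∃ v : V, algebraMap V K v = cf n (φ (1 ⊗ₜ h)) := by
    intro h n
    have h1 := isIntegral_repr (GBasis.ofBialgEquiv e) (gT K) φ h (Multiplicative.ofAdd n)
    exact IsIntegrallyClosed.algebraMap_eq_of_integral h1
  have hra : ∀ h, ∃ p : V[T;T⁻¹], mT V K p = φ (1 ⊗ₜ h) := by
    intro h
    choose v hv using hco h
    refine ⟨∑ n ∈ (φ ((1 : K) ⊗ₜ[V] h)).coeff.support, v n • T n, ext_cf K fun m => ?_⟩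
    rw [cf_mT, ← hv]
    congr 1
    simp only [map_sum, map_smul, cf_T, smul_eq_mul, mul_ite, _root_.mul_one, mul_zero,
      Finset.sum_ite_eq']
    split_ifs with hm
    · rfl
    · symm
      apply hinj
      rw [hv, map_zero]
      exact Finsupp.notMem_support_iff.1 hm
  let φ' : H →ₐ[V] K[T;T⁻¹] :=
    ((φ : K ⊗[V] H →ₐ[K] K[T;T⁻¹]).restrictScalars V).comp Algebra.TensorProduct.includeRight
  let E := AlgEquiv.ofInjective (mT V K) (mT_injective V K hinj)
  let ψ : H →ₐ[V] V[T;T⁻¹] := (E.symm : _ →ₐ[V] V[T;T⁻¹]).comp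
    (φ'.codRestrict (mT V K).range fun h => hra h)
  have hψ : ∀ h, mT V K (ψ h) = φ (1 ⊗ₜ h) := by
    intro h
    have h1 : E (ψ h) = φ'.codRestrict (mT V K).range (fun h => hra h) h := E.apply_symm_apply _
    exact congrArg Subtype.val h1
  refine ⟨BialgHom.ofAlgHom ψ ?_ ?_, hψ⟩
  · apply AlgHom.ext
    intro h
    apply hinj
    change algebraMap V K (Coalgebra.counit (R := V) (ψ h)) =
      algebraMap V K (Coalgebra.counit (R := V) h)
    rw [← counit_mT, hψ, CoalgHomClass.counit_comp_apply]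
    simp [Algebra.smul_def]
  · apply AlgHom.ext
    intro h
    apply mTT_injective V K hinj
    change mTT V K (Algebra.TensorProduct.map ψ ψ (Coalgebra.comul (R := V) h)) =
      mTT V K (Coalgebra.comul (R := V) (ψ h))
    rw [← comul_mT, hψ, ← CoalgHomClass.map_comp_comul_apply, comul_one_tmul]
    generalize Coalgebra.comul (R := V) h = z
    induction z using TensorProduct.induction_on with
    | zero => simp
    | add x y hx hy => simp only [map_add, hx, hy, TensorProduct.tmul_add]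
    | tmul a b =>
      rw [Algebra.TensorProduct.map_tmul, mTT_tmul, hψ, hψ]
      rfl

end Main

end K672.CochCoeff
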