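import Groth.Agent.Sga3B.MT.Main
import Groth.Agent.Sga3B.MT.Overlap
import Mathlib.GroupTheory.CosetCover

/-!
# Rational regular infinitesimal automorphisms fixing a given torus

`k` a field, `T₀` a maximal torus of `G_k` (through its universal point `u`), `K` an algebraically closed
extension over which `T₀` is conjugate to the torus of a split cell datum. If `k` is infinite or has at least
as many elements as there are roots, some infinitesimal automorphism over `k` which is trivial on `T₀` is regular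
over `K`.
-/

set_option autoImplicit false
universe u

open TensorProduct
open scoped Pointwise
open Groth.Agent.Sga3B.Cell Groth.Agent.Sga3B.MT

namespace K672.InfReg

section Cover

/-- A proper subspace of finite index has index at least the cardinality of the field. -/
lemma card_le_index {k V : Type*} [Field k] [AddCommGroup V] [Module k V] [Finite k]
    (W : Submodule k V) (hW : W ≠ ⊤) (hfi : W.toAddSubgroup.FiniteIndex) :
    Nat.card k ≤ W.toAddSubgroup.index := by
  have h1 : Finite (V ⧸ W) := AddSubgroup.finite_quotient_of_finiteIndex (H := W.toAddSubgroup)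
  have h2 : Nontrivial (V ⧸ W) := Submodule.Quotient.nontrivial_iff.mpr hW
  obtain ⟨v, hv⟩ := exists_ne (0 : V ⧸ W)
  have h3 : Function.Injective (fun c : k => c • v) := smul_left_injective k hv
  exact Nat.card_le_card_of_injective _ h3

/-- A vector space over a field with `q` elements is not the union of the members of a family of `n ≤ q` proper
subspaces which are not all distinct. -/
theorem exists_notMem {k V ι : Type*} [Field k] [AddCommGroup V] [Module k V] [Fintype ι]
    (W : ι → Submodule k V) (hW : ∀ i, W i ≠ ⊤) (hi : ∀ i : ι, ∃ j, j ≠ i ∧ W j = W i)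
    (h : Infinite k ∨ Fintype.card ι ≤ Nat.card k) : ∃ v, ∀ i, v ∉ W i := by
  classical
  let s : Finset (Submodule k V) := Finset.univ.image W
  have hs : ∀ U ∈ s, U ≠ ⊤ := by
    intro U hU
    obtain ⟨i, -, rfl⟩ := Finset.mem_image.mp hU
    exact hW i
  by_contra hcon
  push Not at hcon
  have hcov : ⋃ U ∈ s, (U : Set V) = Set.univ := by
    rw [Set.eq_univ_iff_forall]
    intro v
    obtain ⟨i, hv⟩ := hcon v
    rw [Set.mem_iUnion₂]
    exact ⟨W i, Finset.mem_image_of_mem _ (Finset.mem_univ i), hv⟩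
  rcases finite_or_infinite k with hk | hk
  · obtain ⟨i₀, -⟩ := hcon 0
    have hcard : s.card < Fintype.card ι := by
      refine lt_of_le_of_ne Finset.card_image_le fun h1 => ?_
      obtain ⟨j, hj, hj'⟩ := hi i₀
      have h2 : Set.InjOn W (Finset.univ : Finset ι) := Finset.card_image_iff.mp h1
      exact hj (h2 (Finset.mem_coe.mpr (Finset.mem_univ j)) (Finset.mem_coe.mpr (Finset.mem_univ i₀)) hj')
    have hcov' : ⋃ U ∈ s, (0 : V) +ᵥ ((Submodule.toAddSubgroup U : AddSubgroup V) : Set V) = Set.univ := by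
      simpa using hcov
    obtain ⟨U, hU, hfi, hle⟩ := AddSubgroup.exists_index_le_card_of_leftCoset_cover
      (g := fun _ => (0 : V)) (H := fun U : Submodule k V => U.toAddSubgroup) hcov'
    have h4 := card_le_index U (hs U hU) hfi
    have h5 : Fintype.card ι ≤ Nat.card k := h.resolve_left (fun h6 => h6.not_finite hk)
    omega
  · exact Subspace.biUnion_ne_univ_of_top_notMem (fun h1 => hs ⊤ h1 rfl) hcov

end Cover

section Fix

variable {R A k H : Type u} [CommRing R] [CommRing A] [Algebra R A] [PtGrp R A] [CommRing k]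
  [Algebra R k] [CommRing H] [Algebra R H] [Algebra k H] [IsScalarTower R k H]

lemma evp_smul {B : Type u} [CommRing B] [Algebra R B] (φ : k →ₐ[R] B) (g : Pt R A B) (c : k)
    (z : k ⊗[R] A) : evp φ g (c • z) = φ c * evp φ g z := by
  induction z using TensorProduct.induction_on with
  | zero => simp
  | tmul x y => simp [TensorProduct.smul_tmul', mul_assoc]
  | add x y hx hy => rw [smul_add, map_add, hx, hy, map_add, mul_add]

variable (k) in
/-- The values on the functions on `Spec H`. -/
noncomputable def ev (u : Pt R A H) : InfAut R A k →ₗ[k] (A → H) where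
  toFun x f := evp (IsScalarTower.toAlgHom R k H) u (x.1 f)
  map_add' x y := by
    funext f
    rw [InfAut.val_add, LinearMap.add_apply, map_add, Pi.add_apply]
  map_smul' c x := by
    funext f
    rw [InfAut.val_smul, LinearMap.smul_apply, evp_smul, RingHom.id_apply, Pi.smul_apply,
      Algebra.smul_def]
    rfl

variable (k) in
/-- The infinitesimal automorphisms which are trivial on `Spec H`. -/
noncomputable def fix (u : Pt R A H) : Submodule k (InfAut R A k) := LinearMap.ker (ev k u)

lemma mem_fix_iff' (u : Pt R A H) (x : InfAut R A k) :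
    x ∈ fix k u ↔ ∀ f, evp (IsScalarTower.toAlgHom R k H) u (x.1 f) = 0 := by
  rw [fix, LinearMap.mem_ker, funext_iff]
  rfl

lemma app_eq_iff {B : Type u} [CommRing B] [Algebra R B] (φ : k →ₐ[R] B) (g : Pt R A B)
    (x : InfAut R A k) : x.app φ g = Pt.map (eInl R B) g ↔ ∀ f, evp φ g (x.1 f) = 0 := by
  constructor
  · intro h f
    have h1 := congrArg (fun p : Pt R A (Eps B) => (p.hom f).snd) h
    simpa using h1
  · intro h
    apply Pt.ext
    intro f
    ext
    · simp
    · simp [h]

lemma mem_fix_iff (u : Pt R A H) (x : InfAut R A k) :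
    x ∈ fix k u ↔ x.app (IsScalarTower.toAlgHom R k H) u = Pt.map (eInl R H) u := by
  rw [mem_fix_iff', app_eq_iff]

lemma app_of_mem_fix {u : Pt R A H} {x : InfAut R A k} (hx : x ∈ fix k u) {B : Type u}
    [CommRing B] [Algebra R B] (χ : H →ₐ[R] B) :
    x.app (χ.comp (IsScalarTower.toAlgHom R k H)) (Pt.map χ u) =
      Pt.map (eInl R B) (Pt.map χ u) := by
  rw [← InfAut.app_nat, (mem_fix_iff u x).1 hx, Pt.map_map, eMap_comp_eInl, ← Pt.map_map]

end Fix

section Desc

variable {R A k K H : Type u} [CommRing R] [CommRing A] [Algebra R A] [PtGrp R A] [Field k]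
  [Algebra R k] [Field K] [Algebra R K] [Algebra k K] [IsScalarTower R k K] [CommRing H]
  [Algebra R H] [Algebra k H] [IsScalarTower R k H]

/-- Infinitesimal automorphisms over `K` in terms of a basis of `K` over `k`. -/
lemma exists_sum [Algebra.FinitePresentation R A] {ι : Type*} (β : Module.Basis ι k K)
    (X : InfAut R A K) : ∃ v : ι →₀ InfAut R A k,
      X = v.sum fun i w => β i • InfAut.map (IsScalarTower.toAlgHom R k K) w := by
  classical
  let J := IsScalarTower.toAlgHom R k K
  let S : AddSubmonoid (InfAut R A K) :=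
    { carrier := {X | ∃ v : ι →₀ InfAut R A k, X = v.sum fun i w => β i • InfAut.map J w}
      zero_mem' := ⟨0, by rw [Finsupp.sum_zero_index]⟩
      add_mem' := by
        rintro _ _ ⟨v, rfl⟩ ⟨v', rfl⟩
        refine ⟨v + v', ?_⟩
        rw [Finsupp.sum_add_index']
        · intro i
          rw [map_zero, smul_zero]
        · intro i a b
          rw [map_add, smul_add] }
  have h1 : ∀ (c : K) (w : InfAut R A k), c • InfAut.map J w ∈ S := by
    intro c w
    refine ⟨(β.repr c).mapRange (fun r => r • w) (zero_smul k w), ?_⟩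
    rw [Finsupp.sum_mapRange_index (fun i => by rw [map_zero, smul_zero])]
    conv_lhs => rw [← β.linearCombination_repr c, Finsupp.linearCombination_apply]
    rw [Finsupp.sum, Finsupp.sum, Finset.sum_smul]
    refine Finset.sum_congr rfl fun i _ => ?_
    rw [InfAut.map_smul, smul_smul, Algebra.smul_def, mul_comm]
    rfl
  have h2 : ∀ (c : K) (Y : InfAut R A K), Y ∈ S → c • Y ∈ S := by
    rintro c _ ⟨v, rfl⟩
    rw [Finsupp.sum, Finset.smul_sum]
    refine S.sum_mem fun i _ => ?_
    rw [smul_smul]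
    exact h1 _ _
  have h3 := InfAut.mem_span_of_flat (A := A) J (by
    change (algebraMap k K).Flat
    exact RingHom.flat_algebraMap_iff.mpr inferInstance) X
  change X ∈ S
  induction h3 using Submodule.span_induction with
  | mem y hy =>
    obtain ⟨w, rfl⟩ := hy
    have := h1 1 w
    rwa [one_smul] at this
  | zero => exact S.zero_mem
  | add y z _ _ hy hz => exact S.add_mem hy hz
  | smul c y _ hy => exact h2 c y hy

/-- The components of an infinitesimal automorphism over `K` which is trivial on a subgroup defined over `k`. -/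
theorem mem_fix_of_sum {ι : Type*} (β : Module.Basis ι k K) (u : Pt R A H) (X : InfAut R A K)
    (hX : ∀ {B : Type u} [CommRing B] [Algebra R B] (φ : K →ₐ[R] B) (χ : H →ₐ[R] B)
      (_ : χ.comp (IsScalarTower.toAlgHom R k H) = φ.comp (IsScalarTower.toAlgHom R k K)),
      X.app φ (Pt.map χ u) = Pt.map (eInl R B) (Pt.map χ u))
    (v : ι →₀ InfAut R A k)
    (hv : X = v.sum fun i w => β i • InfAut.map (IsScalarTower.toAlgHom R k K) w) (i : ι) :
    v i ∈ fix k u := by
  classical
  let φK : K →ₐ[R] K ⊗[k] H := (Algebra.TensorProduct.includeLeft : K →ₐ[k] K ⊗[k] H).restrictScalars R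
  let χK : H →ₐ[R] K ⊗[k] H := (Algebra.TensorProduct.includeRight : H →ₐ[k] K ⊗[k] H).restrictScalars R
  have hc : χK.comp (IsScalarTower.toAlgHom R k H) = φK.comp (IsScalarTower.toAlgHom R k K) := by
    apply AlgHom.ext
    intro c
    change (1 : K) ⊗ₜ[k] (algebraMap k H c) = (algebraMap k K c) ⊗ₜ[k] (1 : H)
    rw [Algebra.algebraMap_eq_smul_one, Algebra.algebraMap_eq_smul_one, TensorProduct.smul_tmul]
  have h1 := (app_eq_iff φK (Pt.map χK u) X).1 (hX φK χK hc)
  rw [mem_fix_iff']
  intro f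
  have h2 : ∀ w : InfAut R A k, evp φK (Pt.map χK u)
      ((InfAut.map (IsScalarTower.toAlgHom R k K) w).1 f) =
        (1 : K) ⊗ₜ[k] evp (IsScalarTower.toAlgHom R k H) u (w.1 f) := by
    intro w
    rw [InfAut.map_val]
    generalize w.1 f = z
    induction z using TensorProduct.induction_on with
    | zero => simp
    | add x y hx hy => rw [map_add, map_add, hx, hy, map_add, TensorProduct.tmul_add]
    | tmul c a =>
      rw [Algebra.TensorProduct.map_tmul, evp_tmul, evp_tmul, Pt.map_hom_apply]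
      have h3 : φK (IsScalarTower.toAlgHom R k K c) = χK (IsScalarTower.toAlgHom R k H c) :=
        (DFunLike.congr_fun hc c).symm
      rw [h3, AlgHom.id_apply, ← map_mul]
      rfl
  have h3 := h1 f
  have h4 : (v.sum fun i w => β i ⊗ₜ[k] evp (IsScalarTower.toAlgHom R k H) u (w.1 f)) = 0 := by
    rw [← h3, hv, Finsupp.sum, Finsupp.sum]
    have h5 : ∀ (s : Finset ι) (g : ι → InfAut R A K), (∑ i ∈ s, g i).1 f = ∑ i ∈ s, (g i).1 f := by
      intro s g
      induction s using Finset.induction_on with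
      | empty => simp
      | insert a s ha ih => rw [Finset.sum_insert ha, Finset.sum_insert ha, InfAut.val_add, LinearMap.add_apply, ih]
    rw [h5, map_sum]
    refine Finset.sum_congr rfl fun i _ => ?_
    rw [InfAut.val_smul, LinearMap.smul_apply, evp_smul, h2]
    change _ = (β i ⊗ₜ[k] (1 : H)) * _
    rw [Algebra.TensorProduct.tmul_mul_tmul, mul_one, one_mul]
  have h6 := TensorProduct.sum_tmul_basis_left_eq_zero β
    (v.mapRange (fun w => evp (IsScalarTower.toAlgHom R k H) u (w.1 f)) (by simp)) (by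
      rw [Finsupp.sum_mapRange_index (fun i => by rw [TensorProduct.tmul_zero])]
      exact h4)
  have h7 := DFunLike.congr_fun h6 i
  rwa [Finsupp.mapRange_apply] at h7

end Desc

section Diag

variable {idx M : Type} [Fintype idx] [AddCommGroup M] [Module.Free ℤ M] [Module.Finite ℤ M]
variable {P : RootPairing idx ℤ M (Module.Dual ℤ M)} {b : P.Base}
    {R A B₀ : Type u} [CommRing R] [CommRing A] [Algebra R A] [CommRing B₀] [Algebra R B₀]
    [PtGrp R A] {D : RCell P b R A B₀} {B : Type u} [CommRing B] [Algebra R B] {φ : B₀ →ₐ[R] B}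

lemma isDiag_add {c c' : P.rootSpan ℤ →+ B} {x y : InfAut R A B} (hx : D.IsDiag φ c x)
    (hy : D.IsDiag φ c' y) : D.IsDiag φ (c + c') (x + y) :=
  RCell.IsDiag'.isDiag (hx.isDiag'.add hy.isDiag')

lemma eScale_comp_eInl {B' : Type u} [CommRing B'] [Algebra R B'] (r : B') :
    (eScale R r).comp (eInl R B') = eInl R B' := by
  ext x
  · simp
  · simp

lemma isDiag_smul {c : P.rootSpan ℤ →+ B} {x : InfAut R A B} (r : B) (hx : D.IsDiag φ c x) :
    D.IsDiag φ ((AddMonoidHom.mulLeft r).comp c) (r • x) := by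
  refine ⟨fun {B'} _ _ ψ t => ?_, fun a {B'} _ _ ψ z => ?_⟩
  · rw [InfAut.app_smul, hx.1 ψ t, Pt.map_map, eScale_comp_eInl]
  · rw [InfAut.app_smul, hx.2 a ψ z, D.uu_nat, ← AlgHom.comp_assoc, eScale_comp_eInl]
    congr 1
    ext
    · simp
    · simp [mul_assoc]

variable (D φ) in
/-- The diagonal infinitesimal automorphisms vanishing at the root `a`. -/
noncomputable def diagSub (a : idx) : Submodule B (InfAut R A B) where
  carrier := {Y | ∃ c : P.rootSpan ℤ →+ B, D.IsDiag φ c Y ∧ c (P.rootSpanMem ℤ a) = 0}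
  zero_mem' := ⟨0, RCell.isDiag_zero, rfl⟩
  add_mem' := by
    rintro x y ⟨c, hc, h⟩ ⟨c', hc', h'⟩
    exact ⟨c + c', isDiag_add hc hc', by rw [AddMonoidHom.add_apply, h, h', add_zero]⟩
  smul_mem' := by
    rintro r x ⟨c, hc, h⟩
    refine ⟨_, isDiag_smul r hc, ?_⟩
    change r * c _ = 0
    rw [h, mul_zero]

lemma isDiag_unique {c c' : P.rootSpan ℤ →+ B} {y : InfAut R A B} (hy : D.IsDiag φ c y)
    (hy' : D.IsDiag φ c' y) : c = c' :=
  (D.inn_unique φ hy hy' (z := 0) (z' := 0) rfl).2.1

lemma diagSub_neg (a : idx) : diagSub D φ (P.reflectionPerm a a) = diagSub D φ a := by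
  have h : ∀ c : P.rootSpan ℤ →+ B, c (P.rootSpanMem ℤ (P.reflectionPerm a a)) = 0 ↔
      c (P.rootSpanMem ℤ a) = 0 := by
    intro c
    rw [RootPairing.rootSpanMem_reflectionPerm_self, map_neg, neg_eq_zero]
  ext Y
  constructor
  · rintro ⟨c, hc, h1⟩
    exact ⟨c, hc, (h c).1 h1⟩
  · rintro ⟨c, hc, h1⟩
    exact ⟨c, hc, (h c).2 h1⟩

omit [Fintype idx] [Module.Finite ℤ M] in
lemma reflectionPerm_self_ne (P : RootPairing idx ℤ M (Module.Dual ℤ M)) (a : idx) :
    P.reflectionPerm a a ≠ a := by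
  intro h
  have h1 : P.root (P.reflectionPerm a a) = - P.root a := by
    rw [P.root_reflectionPerm, P.reflection_apply_self]
  rw [h] at h1
  have h2 : (2 : ℤ) • P.root a = 0 := by
    rw [two_smul]
    nth_rw 1 [h1]
    exact neg_add_cancel _
  rcases smul_eq_zero.1 h2 with h3 | h3
  · exact two_ne_zero h3
  · exact P.ne_zero a h3

/-- An infinitesimal automorphism which is trivial on a conjugate of the torus is conjugate to a diagonal one. -/
theorem exists_isDiag [Algebra.Smooth R A] (hdom : GeomDom R A) (g₁ : Pt R A B) (X : InfAut R A B)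
    (hX : ∀ {B' : Type u} [CommRing B'] [Algebra R B'] (ψ : B →ₐ[R] B') (h : Pt R A B'),
      D.TorAt (ψ.comp φ) (Pt.map ψ g₁) h → X.app ψ h = Pt.map (eInl R B') h) :
    ∃ c, D.IsDiag φ c (InfAut.Ad g₁⁻¹ X) := by
  apply D.exists_isDiag_of_torus hdom φ
  intro B' _ _ ψ t
  have h1 := hX ψ _ ⟨t, rfl⟩
  have h2 : InfAut.inlPt ψ g₁ = Pt.map (eInl R B') (Pt.map ψ g₁) := by
    rw [InfAut.inlPt, Pt.map_map]
  have h3 : (Pt.map ψ g₁⁻¹)⁻¹ * D.i (ψ.comp φ) t * Pt.map ψ g₁⁻¹ =
      Pt.map ψ g₁ * D.i (ψ.comp φ) t * (Pt.map ψ g₁)⁻¹ := by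
    rw [Pt.map_inv, inv_inv]
  rw [InfAut.app_Ad, h3, h1, InfAut.inlPt_inv, h2]
  simp only [Pt.map_mul, Pt.map_inv]
  group

/-- A conjugate of a diagonal infinitesimal automorphism is trivial on the conjugate of the torus. -/
theorem app_of_isDiag (g₁ : Pt R A B) {c : P.rootSpan ℤ →+ B} {y : InfAut R A B}
    (hy : D.IsDiag φ c y) {B' : Type u} [CommRing B'] [Algebra R B'] (ψ : B →ₐ[R] B')
    (h : Pt R A B') (hh : D.TorAt (ψ.comp φ) (Pt.map ψ g₁) h) :
    (InfAut.Ad g₁ y).app ψ h = Pt.map (eInl R B') h := by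
  obtain ⟨t, rfl⟩ := hh
  have h2 : InfAut.inlPt ψ g₁ = Pt.map (eInl R B') (Pt.map ψ g₁) := by
    rw [InfAut.inlPt, Pt.map_map]
  have h3 : (Pt.map ψ g₁)⁻¹ * (Pt.map ψ g₁ * D.i (ψ.comp φ) t * (Pt.map ψ g₁)⁻¹) * Pt.map ψ g₁ =
      D.i (ψ.comp φ) t := by group
  rw [InfAut.app_Ad, h3, hy.1, h2, ← Pt.map_inv, ← Pt.map_mul, ← Pt.map_mul]

end Diag

section Main

variable {idx M : Type} [Fintype idx] [AddCommGroup M] [Module.Free ℤ M] [Module.Finite ℤ M]
variable {P : RootPairing idx ℤ M (Module.Dual ℤ M)} {b : P.Base}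
  {R A k K H : Type u} [CommRing R] [CommRing A] [Algebra R A] [PtGrp R A] [Field k]
  [Algebra R k] [Field K] [Algebra R K] [Algebra k K] [IsScalarTower R k K] [CommRing H]
  [Algebra R H] [Algebra k H] [IsScalarTower R k H]

/-- **Rational regular infinitesimal automorphisms which are trivial on a given torus.** -/
theorem exists_isReg_fix [Algebra.Smooth R A] [Algebra.FinitePresentation R A]
    (hdom : GeomDom R A) (D : RCell P b R A K) (u : Pt R A H) (g₁ : Pt R A K)
    (hu : ∀ {B : Type u} [CommRing B] [Algebra R B] (φ : K →ₐ[R] B) (h : Pt R A B),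
      (∃ χ : H →ₐ[R] B, χ.comp (IsScalarTower.toAlgHom R k H) =
        φ.comp (IsScalarTower.toAlgHom R k K) ∧ h = Pt.map χ u) ↔ D.TorAt φ (Pt.map φ g₁) h)
    (hk : Infinite k ∨ Fintype.card idx ≤ Nat.card k) :
    ∃ x : InfAut R A k, x ∈ fix k u ∧
      D.IsReg (AlgHom.id R K) (InfAut.map (IsScalarTower.toAlgHom R k K) x) := by
  classical
  let J := IsScalarTower.toAlgHom R k K
  have hfix : ∀ x ∈ fix k u, ∀ {B : Type u} [CommRing B] [Algebra R B] (φ : K →ₐ[R] B)
      (h : Pt R A B), D.TorAt φ (Pt.map φ g₁) h →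
        (InfAut.map J x).app φ h = Pt.map (eInl R B) h := by
    intro x hx B _ _ φ h hh
    obtain ⟨χ, hχ, rfl⟩ := (hu φ h).2 hh
    rw [InfAut.app_map, ← hχ]
    exact app_of_mem_fix hx χ
  have hdiag : ∀ x ∈ fix k u, ∃ c, D.IsDiag (AlgHom.id R K) c (InfAut.Ad g₁⁻¹ (InfAut.map J x)) :=
    fun x hx => exists_isDiag hdom g₁ _ fun ψ h hh => hfix x hx ψ h hh
  let V : idx → Submodule k (fix k u) := fun a =>
    { carrier := {x : ↥(fix k u) | InfAut.Ad g₁⁻¹ (InfAut.map J x.1) ∈ diagSub D (AlgHom.id R K) a}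
      zero_mem' := by
        change InfAut.Ad g₁⁻¹ (InfAut.map J (0 : InfAut R A k)) ∈ diagSub D (AlgHom.id R K) a
        rw [map_zero]
        have h := InfAut.Ad_smul g₁⁻¹ (0 : K) (0 : InfAut R A K)
        rw [zero_smul, zero_smul] at h
        rw [h]
        exact Submodule.zero_mem _
      add_mem' := by
        intro x y hx hy
        change InfAut.Ad g₁⁻¹ (InfAut.map J (x.1 + y.1)) ∈ diagSub D (AlgHom.id R K) a
        rw [map_add, InfAut.Ad_add]
        exact Submodule.add_mem _ hx hy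
      smul_mem' := by
        intro r x hx
        change InfAut.Ad g₁⁻¹ (InfAut.map J (r • x.1)) ∈ diagSub D (AlgHom.id R K) a
        rw [InfAut.map_smul, InfAut.Ad_smul]
        exact Submodule.smul_mem _ _ hx }
  have hV : ∀ a, V a ≠ ⊤ := by
    intro a htop
    obtain ⟨c₀, hc₀⟩ := RegForm.exists_ne_zero b K a
    obtain ⟨y₀, hy₀⟩ := D.exists_diag hdom (AlgHom.id R K) c₀
    let β := Module.Basis.ofVectorSpace k K
    obtain ⟨v, hv⟩ := exists_sum β (InfAut.Ad g₁ y₀)
    have hvf : ∀ i, v i ∈ fix k u := mem_fix_of_sum β u _ (fun φ χ hχ =>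
      app_of_isDiag g₁ hy₀ φ _ ((hu φ _).1 ⟨χ, hχ, rfl⟩)) v hv
    have h1 : y₀ ∈ diagSub D (AlgHom.id R K) a := by
      have h2 : y₀ = InfAut.Ad g₁⁻¹ (v.sum fun i w => β i • InfAut.map J w) := by
        rw [← hv, InfAut.Ad_inv_Ad]
      have h3 : ∀ {ι : Type u} (s : Finset ι) (g : ι → InfAut R A K), (∀ i ∈ s, InfAut.Ad g₁⁻¹ (g i) ∈
          diagSub D (AlgHom.id R K) a) → InfAut.Ad g₁⁻¹ (∑ i ∈ s, g i) ∈
            diagSub D (AlgHom.id R K) a := by
        intro ι s g
        induction s using Finset.induction_on with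
        | empty =>
          intro _
          exact (V a).zero_mem' |> fun h => by
            have h' : InfAut.Ad g₁⁻¹ (InfAut.map J 0) ∈ diagSub D (AlgHom.id R K) a := h
            rwa [map_zero] at h'
        | insert i s hi ih =>
          intro h
          rw [Finset.sum_insert hi, InfAut.Ad_add]
          exact Submodule.add_mem _ (h i (Finset.mem_insert_self i s))
            (ih fun j hj => h j (Finset.mem_insert_of_mem hj))
      rw [h2, Finsupp.sum]
      refine h3 _ _ fun i _ => ?_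
      rw [InfAut.Ad_smul]
      refine Submodule.smul_mem _ _ ?_
      have h4 : (⟨v i, hvf i⟩ : fix k u) ∈ V a := by rw [htop]; trivial
      exact h4
    obtain ⟨c, hc, h2⟩ := h1
    rw [isDiag_unique hy₀ hc, h2] at hc₀
    exact hc₀ rfl
  obtain ⟨x, hx⟩ := exists_notMem V hV (fun a => ⟨P.reflectionPerm a a, reflectionPerm_self_ne P a, by
    ext y
    change InfAut.Ad g₁⁻¹ (InfAut.map J y.1) ∈ diagSub D (AlgHom.id R K) (P.reflectionPerm a a) ↔
      InfAut.Ad g₁⁻¹ (InfAut.map J y.1) ∈ diagSub D (AlgHom.id R K) a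
    rw [diagSub_neg]⟩) hk
  obtain ⟨c, hc⟩ := hdiag x.1 x.2
  refine ⟨x.1, x.2, g₁, c, _, hc, fun a => isUnit_iff_ne_zero.2 fun h => hx a ⟨c, hc, h⟩, ?_⟩
  rw [InfAut.Ad_Ad_inv]

end Main

end K672.InfReg
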