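import Groth.Agent.Red.K672.LiftMain
import Groth.Agent.AlgSp.K639.Dim
import Groth.Agent.Sga3B.MT.Final824
import Groth.Agent.Sga3B.SplitGlue904
import Groth.Agent.Sga3B.SplitNhd885

/-!
# The number of roots is at most the dimension of the closed fibre
-/

set_option autoImplicit false
universe u

open CategoryTheory MonoidalCategory CartesianMonoidalCategory MonObj GrpObj AlgebraicGeometry Limits

namespace K672.LiftDim

open Groth.Agent.Sga3B Groth.Agent.Sga3B.BcPts Groth.Agent.Sga3B.MT Groth.Agent.Sga3B.ResAlg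
open Groth.Agent.Sga3B.Cell
open Groth.Agent.Books.AffBridge
open IsLocalRing (ResidueField maximalIdeal)

/-- The dimension of two base changes to fields over the same point. -/
lemma dim_eq_of_point {U V : Scheme.{u}} (h : U ⟶ V) [LocallyOfFiniteType h] {K L : Type u} [Field K]
    [Field L] (t : Spec (CommRingCat.of K) ⟶ V) (t' : Spec (CommRingCat.of L) ⟶ V)
    (ht : t (IsLocalRing.closedPoint K) = t' (IsLocalRing.closedPoint L)) :
    topologicalKrullDim ↥(pullback h t) = topologicalKrullDim ↥(pullback h t') := by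
  rw [K639.Dim.dim_pullback_field, K639.Dim.dim_pullback_field, ht]

/-- The dimension of a geometric fibre. -/
lemma dim_geomFibre {S : Scheme.{u}} (G : Over S) [LocallyOfFiniteType G.hom] {K : Type u} [Field K]
    (t : Spec (CommRingCat.of K) ⟶ S) :
    topologicalKrullDim ↥(Red.geomFibre (t (IsLocalRing.closedPoint K)) G).left =
      topologicalKrullDim ↥(pullback G.hom t) := by
  refine dim_eq_of_point G.hom (Red.geomPt _) t ?_
  exact (Scheme.Hom.comp_apply _ _ _).trans (Scheme.fromSpecResidueField_apply _ _)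

variable {R : Type u} [CommRing R] [IsLocalRing R] {G : Over (Spec (CommRingCat.of R))} [GrpObj G]

theorem card_le (hG : Red.IsReductive G) {n : ℕ}
    (hn : topologicalKrullDim ↥(Red.bc (f₀ R (ResidueField R)) G).left = n)
    {B₀ : Type u} [CommRing B₀] [Algebra R B₀] (D : Red.SplitRed (Red.bc (f₀ R B₀) G))
    {K : Type u} [Field K] [Algebra (ResidueField R) K] (κ : B₀ →+* K)
    (hκ : κ.comp (algebraMap R B₀) = (algebraMap (ResidueField R) K).comp (algebraMap R (ResidueField R))) :
    Fintype.card D.idx ≤ n := by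
  have hsm : Smooth G.hom := hG.2.1
  have : LocallyOfFiniteType (Red.bc (f₀ R B₀) G).hom :=
    inferInstanceAs (LocallyOfFiniteType (pullback.snd G.hom (f₀ R B₀)))
  let t : Spec (CommRingCat.of K) ⟶ Spec (CommRingCat.of B₀) := Spec.map (CommRingCat.ofHom κ)
  let t₀ : Spec (CommRingCat.of K) ⟶ Spec (CommRingCat.of (ResidueField R)) :=
    Spec.map (CommRingCat.ofHom (algebraMap (ResidueField R) K))
  have e1 : t ≫ f₀ R B₀ = t₀ ≫ f₀ R (ResidueField R) := by
    change Spec.map _ ≫ Spec.map _ = Spec.map _ ≫ Spec.map _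
    rw [← Spec.map_comp, ← Spec.map_comp, ← CommRingCat.ofHom_comp, ← CommRingCat.ofHom_comp, hκ]
  have h1 := D.dim_fibre (t (IsLocalRing.closedPoint K))
  rw [dim_geomFibre] at h1
  have h2 : topologicalKrullDim ↥(pullback (Red.bc (f₀ R B₀) G).hom t) =
      topologicalKrullDim ↥(pullback G.hom (t ≫ f₀ R B₀)) :=
    IsHomeomorph.topologicalKrullDim_eq _
      (Scheme.homeoOfIso (pullbackLeftPullbackSndIso G.hom (f₀ R B₀) t)).isHomeomorph
  have h3 : topologicalKrullDim ↥(pullback G.hom (t ≫ f₀ R B₀)) =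
      topologicalKrullDim ↥(Red.bc (f₀ R (ResidueField R)) G).left := by
    refine dim_eq_of_point G.hom _ _ ?_
    rw [e1]
    refine (Scheme.Hom.comp_apply _ _ _).trans (congrArg (f₀ R (ResidueField R)) ?_)
    exact Subsingleton.elim (α := PrimeSpectrum (ResidueField R)) _ _
  rw [h2, h3, hn] at h1
  have h4 : (n : WithBot ℕ∞) = ((Module.finrank ℤ D.M + Fintype.card D.idx : ℕ) : WithBot ℕ∞) := h1
  have h5 : n = Module.finrank ℤ D.M + Fintype.card D.idx := by exact_mod_cast h4
  omega

/-- **Lifting maximal tori from the closed fibre.** -/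
theorem exists_lift (hG : Red.IsReductive G)
    (hκ : Infinite (ResidueField R) ∨ ∃ n : ℕ,
      topologicalKrullDim ↥(Red.bc (f₀ R (ResidueField R)) G).left = n ∧
        n ≤ Nat.card (ResidueField R))
    (T₀ : Over (Spec (CommRingCat.of (ResidueField R)))) [GrpObj T₀]
    (i₀ : T₀ ⟶ Red.bc (f₀ R (ResidueField R)) G) (h₀ : Red.IsMaximalTorus i₀) :
    ∃ (T : Over (Spec (CommRingCat.of R))) (_ : GrpObj T) (i : T ⟶ G), Red.IsMaximalTorus i ∧
      ∃ e : Red.bc (f₀ R (ResidueField R)) T ≅ T₀,
        e.hom ≫ i₀ = (Over.pullback (f₀ R (ResidueField R))).map i := by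
  have h : SplitGlue904.SplitTRed.{u} := SplitGlue904.splitTRed_of_aff
    fun hG i hT hs q => by
      obtain ⟨w, hw, D, hD, τ, hτ⟩ := SplitNhd885.splitAff hG i hT hs q
      exact ⟨w, hw, D, τ, hD, hτ⟩
  have hpin : PinHyp G := fun s => exists_pinning_affine G s (SplitGlue904.splitNear_of_red h G hG s)
  obtain ⟨A, _, _, ⟨e⟩⟩ := AdCentre.exists_specIso G hG.1
  let _ : PtGrp R A := ptGrpOf (A := A) e
  have hp : IsPullback e.inv.left (Spec.map (CommRingCat.ofHom (algebraMap R A))) G.hom (𝟙 _) := by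
    have : IsIso e.inv.left := inferInstanceAs (IsIso ((Over.forget _).map e.inv))
    exact IsPullback.of_horiz_isIso_mono ⟨by rw [Category.comp_id]; exact Over.w e.inv⟩
  have := hG.2.1
  have h1 : Algebra.Smooth R A := ChartFib.smooth_of_isPullback hp
  have h2 : Algebra.FinitePresentation R A := ChartFib.finitePresentation_of_isPullback hp
  have hdom : MT.GeomDom R A := fun K _ _ => ChartFib.isDomain hG hp K
  refine LiftMain.exists_lift_of_hyps (gptsOf (A := A) e) hdom hG hpin modelHyp i₀ h₀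
    (hκ.imp_right ?_)
  rintro ⟨n, hn, hle⟩ B₀ _ _ D K _ _ _ κ hκ'
  exact (card_le hG hn D.toSplitRed κ hκ').trans hle

end K672.LiftDim
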