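import Groth.Agent.Red.K672.TorConjMem
import Groth.Agent.Red.K672.InfReg

/-!
# The torus of a chart and its closed fibre

A chart `K` (an étale cover over which the infinitesimal automorphism `ξ` is regular) gives a maximal torus `t`
of `G`.  If the restriction of `ξ` to a field `k` is trivial on a maximal torus `i₀` of `G_k`, then the fibre of
`t` is `i₀`.
-/

set_option autoImplicit false
universe u

open CategoryTheory MonoidalCategory CartesianMonoidalCategory MonObj GrpObj AlgebraicGeometry Limits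
open TensorProduct
open Groth.Agent.Sga3B.Cell

namespace K672.LiftGlue

open Groth.Agent.Sga3B Groth.Agent.Sga3B.BcPts Groth.Agent.Sga3B.Parab Groth.Agent.Sga3B.ResAlg
open Groth.Agent.Books.AffBridge Groth.Agent.Sga3B.MT K672.TorConjMem K672.InfReg

/-- The points of the base change of a subgroup. -/
lemma memAt_pullback {S S' : Scheme.{u}} (f : S' ⟶ S) {T G : Over S} (t : T ⟶ G) {X : Over S}
    (a : X ⟶ Over.mk f) (g : X ⟶ G) :
    MemAt ((Over.pullback f).map t) a g ↔ ∃ x : X ⟶ T, x ≫ t = g := by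
  have h2 : ((Over.pullback f).map t).left ≫ pullback.fst G.hom f =
      pullback.fst T.hom f ≫ t.left := (EtHom.isPullback_map f t).w.symm
  rw [memAt_iff', h2]
  constructor
  · rintro ⟨x, h3, h4⟩
    refine ⟨Over.homMk (x ≫ pullback.fst T.hom f) ?_, ?_⟩
    · rw [Category.assoc, pullback.condition, ← Category.assoc]
      exact (congrArg (· ≫ f) h3).trans (Over.w a)
    · ext1
      rw [← h4]
      exact Category.assoc _ _ _
  · rintro ⟨x, rfl⟩
    refine ⟨pullback.lift x.left a.left ((Over.w x).trans (Over.w a).symm), pullback.lift_snd _ _ _, ?_⟩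
    rw [← Category.assoc]
    exact congrArg (· ≫ t.left) (pullback.lift_fst _ _ _)

section chart

variable {R : Type u} [CommRing R] {G : Over (Spec (CommRingCat.of R))} [GrpObj G]
  {A : Type u} [CommRing A] [Algebra R A] [PtGrp R A] {Q : GPts G A} {ξ : InfAut R A R}

/-- **The maximal torus of a chart**. -/
theorem exists_of_chart [Algebra.Smooth R A] (hdom : GeomDom R A) (K : Chart Q ξ)
    (hcov : ∀ s : Spec (CommRingCat.of R), s ∈ Set.range K.f) :
    ∃ (T : Over (Spec (CommRingCat.of R))) (_ : GrpObj T) (t : T ⟶ G),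
      Red.IsMaximalTorus t ∧ IsClosedImmersion t.left ∧
        ∃ e : Red.bc K.q K.D.T ≅ Red.bc K.f T, e.hom ≫ (Over.pullback K.f).map t = K.t := by
  have hmt := K.isMaximalTorus
  have hmon : IsMonHom K.t := hmt.1
  have hmono : Mono K.t := hmt.2.1
  have het : Etale K.f := K.etale_f
  have hc : Compat (fun _ : PUnit.{u + 1} => K.t) := by
    intro i j X a b g H
    refine MemAt.of_aff b g fun C _ c x => ?_
    obtain ⟨_, ⟨e⟩⟩ := exists_specOver C c
    have H' : MemAt K.t (e.hom ≫ x ≫ a) (e.hom ≫ x ≫ g) := (H.comp x).comp e.hom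
    obtain ⟨φ, hφ⟩ := exists_algHom K.f_eq (e.hom ≫ x ≫ a)
    obtain ⟨φ', hφ'⟩ := exists_algHom K.f_eq (e.hom ≫ x ≫ b)
    obtain ⟨h, hh⟩ := (Q.pt C).surjective (e.hom ≫ x ≫ g)
    rw [← hh, K.memAt_iff φ _ hφ] at H'
    have H2 : MemAt K.t (e.hom ≫ x ≫ b) (e.hom ≫ x ≫ g) := by
      rw [← hh, K.memAt_iff φ' _ hφ']
      exact Chart.torAt_of_torAt hdom K K φ' φ H'
    have H3 := H2.comp e.inv
    rwa [Iso.inv_hom_id_assoc, Iso.inv_hom_id_assoc] at H3
  obtain ⟨T, hT, t, ht, htc, hcomp⟩ := exists_closed_subgroup_of_family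
    (f := fun _ : PUnit.{u + 1} => K.f)
    ⟨fun _ => inferInstance, fun _ => inferInstance, fun s => ⟨PUnit.unit, hcov s⟩⟩
    (fun _ => K.t) hc
  have hm : Mono t := Groth.Agent.Sga3C.ClosedSub.mono_of_left t
  obtain ⟨e, he⟩ := hcomp PUnit.unit
  refine ⟨T, hT, t, isMaximalTorus_of_family (fun _ : PUnit.{u + 1} => K.f) (fun _ => het)
    (fun s => ⟨PUnit.unit, hcov s⟩) t ht hm fun _ => ?_, htc, RedIso.und e, he⟩
  refine AlgBc.isMaximalTorus_of_arrow e (Iso.refl _) ?_ hmt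
  rw [he]
  exact Category.comp_id _

/-- The fibres of the torus of a chart contain the tori on which `ξ` is trivial. -/
theorem exists_hom_fibre [Algebra.Smooth R A] (hdom : GeomDom R A) (hG : Red.IsReductive G)
    (K : Chart Q ξ) {T : Over (Spec (CommRingCat.of R))} (t : T ⟶ G) [IsClosedImmersion t.left]
    (e : Red.bc K.q K.D.T ≅ Red.bc K.f T) (he : e.hom ≫ (Over.pullback K.f).map t = K.t)
    {k Ω H : Type u} [Field k] [Algebra R k] [Field Ω] [IsAlgClosed Ω] [Algebra R Ω] [Algebra k Ω]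
    [IsScalarTower R k Ω] (κ : K.B₁ →ₐ[R] Ω)
    [CommRing H] [Algebra k H] [Algebra R H] [IsScalarTower R k H]
    {T₀ : Over (Spec (CommRingCat.of k))} [GrpObj T₀] (i₀ : T₀ ⟶ Red.bc (f₀ R k) G)
    (h₀ : Red.IsMaximalTorus i₀) (ε : Spec (CommRingCat.of H) ≅ T₀.left)
    (hε : ε.hom ≫ T₀.hom = Spec.map (CommRingCat.ofHom (algebraMap k H)))
    (u : Pt R A H) (hu : ∀ {B : Type u} [CommRing B] [Algebra R B] (φ : k →ₐ[R] B) (h : Pt R A B),
      InSub Q i₀ φ h ↔ ∃ χ : H →ₐ[R] B, χ.comp (IsScalarTower.toAlgHom R k H) = φ ∧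
        h = Pt.map χ u)
    (hx : InfAut.map (Algebra.ofId R k) ξ ∈ fix k u) :
    ∃ c : T₀ ⟶ Red.bc (f₀ R k) T, c ≫ (Over.pullback (f₀ R k)).map t = i₀ := by
  let J : k →ₐ[R] Ω := IsScalarTower.toAlgHom R k Ω
  obtain ⟨g₁, hg₁⟩ := exists_torAt Q hG K.D K.b K.F K.hF i₀ h₀ (κ.comp K.ψ) J
  let X : InfAut R A Ω := InfAut.map J (InfAut.map (Algebra.ofId R k) ξ)
  obtain ⟨c', hc'⟩ := exists_isDiag (D := K.F) (φ := κ.comp K.ψ) hdom g₁ X (by
    intro B _ _ φ h hh
    obtain ⟨χ, hχ, rfl⟩ := (hu _ h).1 ((hg₁ φ h).2 hh)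
    rw [InfAut.app_map, ← hχ]
    exact app_of_mem_fix hx χ)
  let C := H ⊗[k] Ω
  let φC : Ω →ₐ[R] C := (Algebra.TensorProduct.includeRight : Ω →ₐ[k] C).restrictScalars R
  let χC : H →ₐ[R] C := (Algebra.TensorProduct.includeLeft : H →ₐ[k] C).restrictScalars R
  have hc : χC.comp (IsScalarTower.toAlgHom R k H) = φC.comp J := by
    apply AlgHom.ext
    intro c
    change (algebraMap k H c) ⊗ₜ[k] (1 : Ω) = (1 : H) ⊗ₜ[k] (algebraMap k Ω c)
    rw [Algebra.algebraMap_eq_smul_one, Algebra.algebraMap_eq_smul_one, TensorProduct.smul_tmul]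
  have hχ : χC.toRingHom.FaithfullyFlat := by
    change (algebraMap H C).FaithfullyFlat
    rw [RingHom.faithfullyFlat_algebraMap_iff]
    infer_instance
  -- the covering
  let h' : SpecOver R C ⟶ (Over.map (f₀ R k)).obj T₀ :=
    Over.homMk (Spec.map (CommRingCat.ofHom χC.toRingHom) ≫ ε.hom) (by
      change (Spec.map _ ≫ ε.hom) ≫ T₀.hom ≫ Spec.map _ = Spec.map _
      rw [Category.assoc, reassoc_of% hε, ← Spec.map_comp, ← Spec.map_comp, ← CommRingCat.ofHom_comp,
        ← CommRingCat.ofHom_comp]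
      congr 2
      rw [← IsScalarTower.algebraMap_eq R k H]
      exact χC.comp_algebraMap)
  have hh' : h' ≫ MemAt.strHom (f₀ R k) T₀ = ovSpec (φC.comp J) := by
    ext1
    change (Spec.map _ ≫ ε.hom) ≫ T₀.hom = Spec.map _
    rw [Category.assoc, hε, ← Spec.map_comp, ← CommRingCat.ofHom_comp, ← hc]
    rfl
  let w : SpecOver R C ⟶ G := h' ≫ (bcEquiv (f₀ R k) T₀ G).symm i₀
  obtain ⟨P, hP⟩ := (Q.pt C).surjective w
  have h1 : InSub Q i₀ (φC.comp J) P := by
    have h2 : MemAt i₀ (MemAt.strHom (f₀ R k) T₀) ((bcEquiv (f₀ R k) T₀ G).symm i₀) :=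
      (MemAt.iff_of_over i₀ T₀ i₀).2 ⟨𝟙 _, Category.id_comp _⟩
    have h3 := h2.comp h'
    rw [hh'] at h3
    change MemAt i₀ _ w at h3
    rwa [← hP] at h3
  have h2 := (hg₁ φC P).1 h1
  have h3 : K.F.TorAt ((φC.comp κ).comp K.ψ) (Pt.map (φC.comp κ) K.g) P := by
    refine RCell.torAt_of_torAt K.F K.F hdom _ _ (K.diag.fix_map (φC.comp κ)) (fun a => ?_)
      (hc'.fix_map φC) ?_ h2
    · exact (K.reg a).map (φC.comp κ)
    · have e1 : (φC.comp J).comp (Algebra.ofId R k) = Algebra.ofId R C :=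
        AlgHom.ext fun r => ((φC.comp J).comp (Algebra.ofId R k)).commutes r
      rw [K.map_ξ, ← InfAut.map_Ad, InfAut.Ad_Ad_inv, InfAut.map_map, InfAut.map_map, e1]
  let a : SpecOver R C ⟶ Over.mk K.f :=
    Over.homMk (Spec.map (CommRingCat.ofHom (φC.comp κ).toRingHom)) (by
      change Spec.map _ ≫ K.f = Spec.map _
      rw [K.f_eq, ← Spec.map_comp, ← CommRingCat.ofHom_comp]
      congr 2
      exact (φC.comp κ).comp_algebraMap)
  have h4 := (K.memAt_iff (φC.comp κ) a rfl P).2 h3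
  rw [memAt_iso e K.t _ he, memAt_pullback, hP] at h4
  have h5 : MemAt ((Over.pullback (f₀ R k)).map t) (MemAt.strHom (f₀ R k) T₀)
      ((bcEquiv (f₀ R k) T₀ G).symm i₀) := by
    have : IsClosedImmersion ((Over.pullback (f₀ R k)).map t).left :=
      MorphismProperty.of_isPullback (EtHom.isPullback_map (f₀ R k) t) ‹_›
    obtain ⟨hfl, hs⟩ := (flat_and_surjective_SpecMap_iff (CommRingCat.ofHom χC.toRingHom)).2 hχ
    have : Flat h'.left := inferInstanceAs (Flat (Spec.map (CommRingCat.ofHom χC.toRingHom) ≫ ε.hom))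
    have : Surjective h'.left :=
      inferInstanceAs (Surjective (Spec.map (CommRingCat.ofHom χC.toRingHom) ≫ ε.hom))
    refine MemAt.of_flat h' ?_
    rw [memAt_pullback]
    exact h4
  exact (MemAt.iff_of_over _ T₀ i₀).1 h5

end chart

end K672.LiftGlue
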