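import Groth.Agent.Red.K672.LiftGlue
import Groth.Agent.Sga3B.MT.Main

/-!
# Lifting maximal tori from the closed fibre of a reductive group over a local ring
-/

set_option autoImplicit false
universe u

open CategoryTheory MonoidalCategory CartesianMonoidalCategory MonObj GrpObj AlgebraicGeometry Limits
open TensorProduct
open Groth.Agent.Sga3B.Cell

namespace K672.LiftMain

open Groth.Agent.Sga3B Groth.Agent.Sga3B.BcPts Groth.Agent.Sga3B.Parab Groth.Agent.Sga3B.ResAlg
open Groth.Agent.Books.AffBridge Groth.Agent.Sga3B.MT K672.TorConjMem K672.InfReg K672.LiftGlue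
open IsLocalRing (ResidueField maximalIdeal)

/-- The coordinate ring of a scheme affine over the spectrum of a ring. -/
lemma exists_coord {k : Type u} [CommRing k] (T : Over (Spec (CommRingCat.of k)))
    [IsAffineHom T.hom] : ∃ (H : Type u) (_ : CommRing H) (_ : Algebra k H)
      (ε : Spec (CommRingCat.of H) ≅ T.left),
      ε.hom ≫ T.hom = Spec.map (CommRingCat.ofHom (algebraMap k H)) := by
  have : IsAffine T.left := isAffine_of_isAffineHom T.hom
  let H : Type u := Γ(T.left, ⊤)
  let ε : Spec (CommRingCat.of H) ≅ T.left := T.left.isoSpec.symm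
  let _ : Algebra k H := (Spec.preimage (ε.hom ≫ T.hom)).hom.toAlgebra
  exact ⟨H, inferInstance, inferInstance, ε, (Spec.map_preimage (ε.hom ≫ T.hom)).symm⟩

section

variable {R : Type u} [CommRing R] [IsLocalRing R] {G : Over (Spec (CommRingCat.of R))} [GrpObj G]
  {A : Type u} [CommRing A] [Algebra R A] [PtGrp R A] (Q : GPts G A)

/-- A chart for a regular infinitesimal automorphism which is trivial on `i₀` over the residue field. -/
theorem exists_chart [Algebra.Smooth R A] [Algebra.FinitePresentation R A] (hdom : GeomDom R A)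
    (hG : Red.IsReductive G) (hpin : PinHyp G) (hmodel : ModelHyp.{u})
    {T₀ : Over (Spec (CommRingCat.of (ResidueField R)))} [GrpObj T₀]
    (i₀ : T₀ ⟶ Red.bc (f₀ R (ResidueField R)) G) (h₀ : Red.IsMaximalTorus i₀)
    (hk : Infinite (ResidueField R) ∨ ∀ (B₀ : Type u) [CommRing B₀] [Algebra R B₀]
      (D : Red.Pinning (Red.bc (f₀ R B₀) G)) (K : Type u) [Field K] [IsAlgClosed K]
      [Algebra (ResidueField R) K] (κ : B₀ →+* K)
      (_ : κ.comp (algebraMap R B₀) = (algebraMap (ResidueField R) K).comp (algebraMap R (ResidueField R))),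
        Fintype.card D.idx ≤ Nat.card (ResidueField R)) {H : Type u} [CommRing H]
    [Algebra (ResidueField R) H] [Algebra R H] [IsScalarTower R (ResidueField R) H]
    (u : Pt R A H) (hu : ∀ {B : Type u} [CommRing B] [Algebra R B] (φ : ResidueField R →ₐ[R] B)
      (h : Pt R A B), InSub Q i₀ φ h ↔ ∃ χ : H →ₐ[R] B,
        χ.comp (IsScalarTower.toAlgHom R (ResidueField R) H) = φ ∧ h = Pt.map χ u) :
    ∃ (ξ : InfAut R A R) (K : Chart Q ξ), InfAut.map (Algebra.ofId R (ResidueField R)) ξ ∈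
      fix (ResidueField R) u ∧ IsLocalRing.closedPoint R ∈ Set.range K.f := by
  obtain ⟨B₀, _, _, het, ⟨q, hq⟩, ⟨D⟩⟩ := hpin (IsLocalRing.closedPoint R)
  have hq' : q.asIdeal.comap (algebraMap R B₀) = maximalIdeal R := congrArg PrimeSpectrum.asIdeal hq
  obtain ⟨model⟩ := hmodel D B₀ (𝟙 _)
  obtain ⟨F, hF⟩ := exists_rcell Q D.toSplitRed D.base model
  obtain ⟨K, _, _, _, κ, j, hker, -⟩ := EtRes904.exists_geomPoint het (maximalIdeal R) q hq'
  let _ : Algebra (ResidueField R) K := j.toRingHom.toAlgebra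
  have hst : IsScalarTower R (ResidueField R) K :=
    IsScalarTower.of_algebraMap_eq' j.comp_algebraMap.symm
  let J : ResidueField R →ₐ[R] K := IsScalarTower.toAlgHom R (ResidueField R) K
  obtain ⟨g₁, hg₁⟩ := exists_torAt Q hG D.toSplitRed D.base F hF i₀ h₀ κ J
  obtain ⟨x, hx, hreg⟩ := exists_isReg_fix hdom (F.bc κ) u g₁ (fun φ h => by
    rw [← hu]
    exact hg₁ φ h) (hk.imp_right fun h => h B₀ D K κ.toRingHom (by
      rw [AlgHom.toRingHom_eq_coe, AlgHom.comp_algebraMap]
      exact (IsScalarTower.algebraMap_eq R (ResidueField R) K)))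
  have hflat : Module.Flat R B₀ := by
    have := RingHom.etale_algebraMap.mp het
    infer_instance
  obtain ⟨ξ, hξ⟩ := InfAut.map_mk_surjective (A := A) (maximalIdeal R) B₀ (by
    intro h
    have h1 : (maximalIdeal R).map (algebraMap R B₀) ≤ q.asIdeal := by
      rw [Ideal.map_le_iff_le_comap, hq']
    exact q.isPrime.ne_top (top_le_iff.mp (h ▸ h1)))
    ((structHyp hdom).surj F (AlgHom.id R B₀) _ Ideal.Quotient.mk_surjective) x
  have hξ' : InfAut.map (Algebra.ofId R (ResidueField R)) ξ = x := by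
    rw [← hξ]
    rfl
  have e1 : κ.comp (Algebra.ofId R B₀) = J.comp (Algebra.ofId R (ResidueField R)) :=
    AlgHom.ext fun r => (κ.commutes r).trans
      ((J.comp (Algebra.ofId R (ResidueField R))).commutes r).symm
  have h1 : F.IsReg κ (InfAut.map κ (InfAut.map (Algebra.ofId R B₀) ξ)) := by
    rw [InfAut.map_map, e1, ← InfAut.map_map, hξ']
    exact hreg
  obtain ⟨B₁, _, _, ψ, hψ, ⟨q₁, hq₁⟩, g, c, y, hy, hc, heq⟩ := F.exists_etale'
    (fun φ c => F.exists_diag hdom φ c)
    (fun φ c y y' hy hy' => F.ext_infAut hdom φ y y'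
      (fun ψ t => (hy.1 ψ t).trans (hy'.1 ψ t).symm)
      (fun a _ _ _ ψ z => (hy.2 a ψ z).trans (hy'.2 a ψ z).symm))
    (fun φ x => (structHyp hdom).zero F φ x)
    (fun φ ψ h1 h2 ξ g₀ c₀ y₀ h3 h4 h5 => (structHyp hdom).lift F φ ψ h1 h2 ξ g₀ c₀ y₀ h3 h4 h5)
    (InfAut.map (Algebra.ofId R B₀) ξ) K κ h1
  refine ⟨ξ, {
      B₀ := B₀
      D := D.toSplitRed
      b := D.base
      F := F
      hF := hF
      B₁ := B₁
      ψ := ψ
      et₀ := het
      et₁ := hψ
      g := g
      c := c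
      y := y
      diag := hy
      reg := hc
      eq := ?_ }, ?_, q₁, ?_⟩
  · have e2 : ψ.comp (Algebra.ofId R B₀) = Algebra.ofId R B₁ :=
      AlgHom.ext fun r => ψ.commutes r
    rw [← heq, InfAut.map_map, e2]
  · rw [hξ']
    exact hx
  · rw [Chart.f_eq]
    apply PrimeSpectrum.ext
    change q₁.asIdeal.comap (algebraMap R B₁) = maximalIdeal R
    have e3 : algebraMap R B₁ = ψ.toRingHom.comp (algebraMap R B₀) := ψ.comp_algebraMap.symm
    rw [e3, ← Ideal.comap_comap, hq₁, hker, hq']

include Q in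
/-- **Lifting maximal tori from the closed fibre**, affine form. -/
theorem exists_lift_of_hyps [Algebra.Smooth R A] [Algebra.FinitePresentation R A]
    (hdom : GeomDom R A) (hG : Red.IsReductive G) (hpin : PinHyp G) (hmodel : ModelHyp.{u})
    {T₀ : Over (Spec (CommRingCat.of (ResidueField R)))} [GrpObj T₀]
    (i₀ : T₀ ⟶ Red.bc (f₀ R (ResidueField R)) G) (h₀ : Red.IsMaximalTorus i₀)
    (hk : Infinite (ResidueField R) ∨ ∀ (B₀ : Type u) [CommRing B₀] [Algebra R B₀]
      (D : Red.Pinning (Red.bc (f₀ R B₀) G)) (K : Type u) [Field K] [IsAlgClosed K]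
      [Algebra (ResidueField R) K] (κ : B₀ →+* K)
      (_ : κ.comp (algebraMap R B₀) = (algebraMap (ResidueField R) K).comp (algebraMap R (ResidueField R))),
        Fintype.card D.idx ≤ Nat.card (ResidueField R)) :
    ∃ (T : Over (Spec (CommRingCat.of R))) (_ : GrpObj T) (i : T ⟶ G), Red.IsMaximalTorus i ∧
      ∃ e : Red.bc (f₀ R (ResidueField R)) T ≅ T₀,
        e.hom ≫ i₀ = (Over.pullback (f₀ R (ResidueField R))).map i := by
  have haff : IsAffineHom T₀.hom := (TorusAlgClosed.isAffineHom_of_isTorus h₀.2.2.1)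
  obtain ⟨H, _, _, ε, hε⟩ := exists_coord T₀
  let _ : Algebra R H := ((algebraMap (ResidueField R) H).comp (algebraMap R (ResidueField R))).toAlgebra
  have hst : IsScalarTower R (ResidueField R) H := IsScalarTower.of_algebraMap_eq' rfl
  obtain ⟨u, hu⟩ := exists_univ Q i₀ ε.hom ε.inv ε.inv_hom_id hε
  obtain ⟨ξ, K, hξ, hcl⟩ := exists_chart Q hdom hG hpin hmodel i₀ h₀ hk u hu
  have het : Etale K.f := K.etale_f
  have hcov : ∀ s : Spec (CommRingCat.of R), s ∈ Set.range K.f := by
    intro s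
    have hop : IsOpen (Set.range K.f) := K.f.isOpenMap.isOpen_range
    have hsp : s ⤳ (IsLocalRing.closedPoint R : Spec (CommRingCat.of R)) :=
      IsLocalRing.specializes_closedPoint (R := R) s
    exact hsp.mem_open hop hcl
  obtain ⟨T, hT, t, ht, htc, e, he⟩ := exists_of_chart hdom K hcov
  -- the geometric point
  have het₁ : (algebraMap R K.B₁).Etale := by
    have h1 : Etale (f₀ R K.B₁) := by
      rw [← K.f_eq]
      exact K.etale_f
    exact (HasRingHomProperty.Spec_iff (P := @Etale)).1 h1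
  obtain ⟨q₁, hq₁⟩ := hcl
  rw [K.f_eq] at hq₁
  obtain ⟨Ω, _, _, _, κ, j, -, -⟩ := EtRes904.exists_geomPoint het₁ (maximalIdeal R) q₁
    (congrArg PrimeSpectrum.asIdeal hq₁)
  let _ : Algebra (ResidueField R) Ω := j.toRingHom.toAlgebra
  have hst : IsScalarTower R (ResidueField R) Ω :=
    IsScalarTower.of_algebraMap_eq' j.comp_algebraMap.symm
  obtain ⟨c, hc⟩ := exists_hom_fibre hdom hG K t e he κ i₀ h₀ ε hε u hu hξ
  -- the comparison is an isomorphism
  have hm : Mono t := Groth.Agent.Sga3C.ClosedSub.mono_of_left t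
  have hmon : IsMonHom t := ht.1
  have hiso : IsIso c := TorClosed636.isIso_of_isMaximalTorus
    (RedBcAny636.isReductive_bc (f₀ R (ResidueField R)) hG) h₀
    ((Over.pullback (f₀ R (ResidueField R))).map t) c
    (MaxTorNear900.mul_comm_of_isTorus (TorusBc.isTorus_bc _ ht.2.2.1)) hc
  refine ⟨T, hT, t, ht, (asIso c).symm, ?_⟩
  change CategoryTheory.inv c ≫ i₀ = _
  rw [← hc, IsIso.inv_hom_id_assoc]

end

end K672.LiftMain
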