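import Groth.Agent.Sga3B.MT.MemOps
import Groth.Agent.Sga3B.MT.FromSplit
import Groth.Agent.Sga3B.MT.Overlap
import Groth.Agent.Sga3B.RG.BrHc2
import Groth.Agent.Sga3B.TorClosed636
import Groth.Agent.Sga3B.SplitBc264
import Groth.Agent.RedSub.H648.BorBc

/-!
# Points of two maximal tori defined over different bases, over an algebraically closed field

`t₁`, `t₂` maximal tori of `G_{S₁}`, `G_{S₂}`, `K` an algebraically closed field with compatible maps to
`S₁`, `S₂`: over `K` the two tori are conjugate (in terms of `MemAt`).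
-/

set_option autoImplicit false

universe u

open CategoryTheory MonoidalCategory CartesianMonoidalCategory MonObj GrpObj AlgebraicGeometry Limits

namespace K672.TorConjMem

open Groth.Agent.Sga3B Groth.Agent.Sga3B.BcPts Groth.Agent.Sga3B.MT

variable {S S' S'' : Scheme.{u}} {f : S' ⟶ S} {G : Over S}

/-- Base change of maximal tori of reductive groups. -/
theorem isMaximalTorus_bcSub [GrpObj G] (hG : Red.IsReductive G) {T : Over S'} [GrpObj T]
    (q : S'' ⟶ S') (t : T ⟶ Red.bc f G) (h : Red.IsMaximalTorus t) :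
    Red.IsMaximalTorus (bcSub q t) := by
  have hG' := RedBcAny636.isReductive_bc f hG
  refine AlgBc.isMaximalTorus_of_arrow (Iso.refl _) (BcIso.bcCompIso q f G).symm ?_
    (SplitBc264.isMaximalTorus_bc q h.2.2.1 (TorClosed636.isCentralizerOf_self hG' h))
  have e : (RedIso.und (BcIso.bcCompIso q f G).symm).hom = (Over.pullbackComp q f).inv.app G := by
    have h1 := BcNat.und_bcCompIso q f G
    have h2 : (RedIso.und (BcIso.bcCompIso q f G).symm).hom ≫
        (RedIso.und (BcIso.bcCompIso q f G)).hom = 𝟙 _ := by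
      rw [BcNat.und_symm, Iso.inv_hom_id]
    rw [h1] at h2
    have h3 : (Over.pullbackComp q f).inv.app G ≫ (Over.pullbackComp q f).hom.app G = 𝟙 _ := by
      simp
    exact (cancel_mono ((Over.pullbackComp q f).hom.app G)).1 (h2.trans h3.symm)
  rw [e]
  exact (Category.id_comp _).symm

/-- Transport along an equality of base morphisms. -/
lemma exists_congr [GrpObj G] {f' : S' ⟶ S} (hf : f = f') {T : Over S'} [GrpObj T]
    (t : T ⟶ Red.bc f G) (ht : Red.IsMaximalTorus t) :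
    ∃ t' : T ⟶ Red.bc f' G, Red.IsMaximalTorus t' ∧
      ∀ (X : Over S) (a : X ⟶ Over.mk f) (a' : X ⟶ Over.mk f') (_ : a.left = a'.left) (g : X ⟶ G),
        MemAt t' a' g ↔ MemAt t a g := by
  subst hf
  refine ⟨t, ht, fun X a a' ha g => ?_⟩
  have : a = a' := by ext1; exact ha
  rw [this]

/-- `MemAt` and isomorphisms of the subgroup. -/
lemma memAt_iso {T T' : Over S'} (e : T ≅ T') (t : T ⟶ Red.bc f G) (t' : T' ⟶ Red.bc f G)
    (h : e.hom ≫ t' = t) {X : Over S} (a : X ⟶ Over.mk f) (g : X ⟶ G) :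
    MemAt t a g ↔ MemAt t' a g := by
  rw [memAt_iff, memAt_iff]
  constructor
  · rintro ⟨x, hx⟩
    exact ⟨x ≫ e.hom, by rw [Category.assoc, h, hx]⟩
  · rintro ⟨x, hx⟩
    exact ⟨x ≫ e.inv, by rw [← h, Category.assoc, Iso.inv_hom_id_assoc, hx]⟩

/-- Conjugation by a point of `bc f G` over the base, as conjugation by a point of `G`. -/
lemma exists_cj_eq [GrpObj G] (cc : 𝟙_ (Over S') ⟶ Red.bc f G) :
    ∃ c' : Over.mk f ⟶ G, ∀ {T : Over S'} (t : T ⟶ Red.bc f G),
      RG.BrHc.conjHom cc t = t ≫ cj c' := by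
  let c' : Over.mk f ⟶ G := Over.homMk (cc.left ≫ pullback.fst G.hom f) (by
    rw [Category.assoc, pullback.condition, ← Category.assoc]
    have h : cc.left ≫ pullback.snd G.hom f = 𝟙 _ := Over.w cc
    rw [h]
    exact Category.id_comp f)
  have key : ∀ T : Over S', toUnit T ≫ cc = toE f T ≫ bcPt (𝟙 (Over.mk f)) c' := by
    intro T
    ext1
    apply pullback.hom_ext
    · rw [Over.comp_left, Category.assoc, Over.comp_left, Category.assoc, bcPt_left_fst]
      change (toUnit T).left ≫ cc.left ≫ _ = T.hom ≫ cc.left ≫ _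
      rfl
    · rw [Over.comp_left, Category.assoc, Over.comp_left, Category.assoc, bcPt_left_snd]
      have h : cc.left ≫ pullback.snd G.hom f = 𝟙 _ := Over.w cc
      rw [h]
      rfl
  refine ⟨c', fun {T} t => ?_⟩
  have h1 := RG.BrHc.comp_conjHom cc t (𝟙 T)
  rw [Category.id_comp, Category.id_comp] at h1
  rw [h1, comp_cj, key]

/-- **The points of two maximal tori over an algebraically closed field.** -/
theorem exists_conj {K : Type u} [Field K] [IsAlgClosed K] [GrpObj G] (hG : Red.IsReductive G)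
    {S₁ S₂ : Scheme.{u}} {f₁ : S₁ ⟶ S} {f₂ : S₂ ⟶ S} {T₁ : Over S₁} {T₂ : Over S₂} [GrpObj T₁]
    [GrpObj T₂] (t₁ : T₁ ⟶ Red.bc f₁ G) (t₂ : T₂ ⟶ Red.bc f₂ G) (h₁ : Red.IsMaximalTorus t₁)
    (h₂ : Red.IsMaximalTorus t₂) (q₁ : Spec (CommRingCat.of K) ⟶ S₁)
    (q₂ : Spec (CommRingCat.of K) ⟶ S₂) (hq : q₂ ≫ f₂ = q₁ ≫ f₁) :
    ∃ cc : Over.mk (q₁ ≫ f₁) ⟶ G, ∀ (X : Over S) (a : X ⟶ Over.mk (q₁ ≫ f₁)) (a₂ : X ⟶ Over.mk f₂)
      (_ : a₂.left = a.left ≫ q₂) (g : X ⟶ G),
      MemAt t₂ a₂ g ↔ MemAt t₁ (a ≫ ovq q₁ f₁) ((a ≫ cc)⁻¹ * g * (a ≫ cc)) := by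
  have hL := RedBcAny636.isReductive_bc (q₁ ≫ f₁) hG
  have hb₁ := isMaximalTorus_bcSub hG q₁ t₁ h₁
  have hb₂ := isMaximalTorus_bcSub hG q₂ t₂ h₂
  obtain ⟨t₂', ht₂', hm⟩ := exists_congr hq (bcSub q₂ t₂) hb₂
  obtain ⟨i1, i2, i3, -⟩ := AlgBc.isReductive_iff.mp hL
  obtain ⟨c₀, e, -, he⟩ := RG.BrHc2.exists_conj_iso (Red.bc (q₁ ≫ f₁) G) (bcSub q₁ t₁) t₂' hb₁ ht₂'
  obtain ⟨cc, hcc⟩ := exists_cj_eq c₀
  refine ⟨cc, fun X a a₂ ha g => ?_⟩
  rw [← memAt_bcSub, ← memAt_comp_cj, ← hcc, memAt_iso e _ t₂' he]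
  let a' : X ⟶ Over.mk (q₂ ≫ f₂) := Over.homMk a.left (by
    rw [hq]
    exact Over.w a)
  rw [hm X a' a rfl g, memAt_bcSub]
  have : a₂ = a' ≫ ovq q₂ f₂ := by
    ext1
    exact ha
  rw [this]

section pts

open Groth.Agent.Books.AffBridge Groth.Agent.Sga3B.Cell

variable {R : Type u} [CommRing R] {G : Over (Spec (CommRingCat.of R))}

/-- `Spec B` as a scheme over `Spec k` over `Spec R`. -/
noncomputable def ovSpec {k B : Type u} [CommRing k] [Algebra R k] [CommRing B] [Algebra R B]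
    (φ : k →ₐ[R] B) : SpecOver R B ⟶ Over.mk (f₀ R k) :=
  Over.homMk (Spec.map (CommRingCat.ofHom φ.toRingHom)) (by
    change Spec.map _ ≫ Spec.map _ = Spec.map _
    rw [← Spec.map_comp, ← CommRingCat.ofHom_comp]
    congr 2
    exact φ.comp_algebraMap)

lemma ovSpec_comp {k B C : Type u} [CommRing k] [Algebra R k] [CommRing B] [Algebra R B]
    [CommRing C] [Algebra R C] (φ : k →ₐ[R] B) (ψ : B →ₐ[R] C) :
    ovSpec (ψ.comp φ) = specMap R ψ ≫ ovSpec φ := by
  ext1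
  change Spec.map _ = Spec.map _ ≫ Spec.map _
  rw [← Spec.map_comp, ← CommRingCat.ofHom_comp]
  rfl

variable [GrpObj G] {A : Type u} [CommRing A] [Algebra R A] [PtGrp R A] (Q : GPts G A)

/-- The point `h` of `G` over `B` lies in the subscheme `t` of `G_k`. -/
def InSub {k : Type u} [CommRing k] [Algebra R k] {T : Over (Spec (CommRingCat.of k))}
    (t : T ⟶ Red.bc (f₀ R k) G) {B : Type u} [CommRing B] [Algebra R B] (φ : k →ₐ[R] B)
    (h : Pt R A B) : Prop :=
  MemAt t (ovSpec φ) (Q.pt B h)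

lemma InSub.map {k : Type u} [CommRing k] [Algebra R k] {T : Over (Spec (CommRingCat.of k))}
    {t : T ⟶ Red.bc (f₀ R k) G} {B C : Type u} [CommRing B] [Algebra R B] [CommRing C] [Algebra R C]
    {φ : k →ₐ[R] B} {h : Pt R A B} (H : InSub Q t φ h) (ψ : B →ₐ[R] C) :
    InSub Q t (ψ.comp φ) (Pt.map ψ h) := by
  have := MemAt.comp (specMap R ψ) H
  rwa [← Q.nat, ← ovSpec_comp] at this

/-- The universal point of an affine subscheme. -/
theorem exists_univ {k : Type u} [CommRing k] [Algebra R k] {T : Over (Spec (CommRingCat.of k))}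
    (t : T ⟶ Red.bc (f₀ R k) G) {H : Type u} [CommRing H] [Algebra k H] [Algebra R H]
    [IsScalarTower R k H] (p : Spec (CommRingCat.of H) ⟶ T.left) (p' : T.left ⟶ Spec (CommRingCat.of H))
    (hp : p' ≫ p = 𝟙 _) (hpT : p ≫ T.hom = Spec.map (CommRingCat.ofHom (algebraMap k H))) :
    ∃ u : Pt R A H, ∀ {B : Type u} [CommRing B] [Algebra R B] (φ : k →ₐ[R] B) (h : Pt R A B),
      InSub Q t φ h ↔ ∃ χ : H →ₐ[R] B, χ.comp (IsScalarTower.toAlgHom R k H) = φ ∧
        h = Pt.map χ u := by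
  have hw : (p ≫ t.left ≫ pullback.fst G.hom (f₀ R k)) ≫ G.hom =
      Spec.map (CommRingCat.ofHom (algebraMap R H)) := by
    rw [Category.assoc, Category.assoc, pullback.condition]
    have h1 : t.left ≫ pullback.snd G.hom (f₀ R k) = T.hom := Over.w t
    rw [reassoc_of% h1, reassoc_of% hpT, IsScalarTower.algebraMap_eq R k H]
    exact (Spec.map_comp _ _).symm
  let v : SpecOver R H ⟶ G := Over.homMk (p ≫ t.left ≫ pullback.fst G.hom (f₀ R k)) hw
  refine ⟨(Q.pt H).symm v, fun {B} _ _ φ h => ?_⟩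
  rw [InSub, memAt_iff']
  constructor
  · rintro ⟨x, hx1, hx2⟩
    let y : Spec (CommRingCat.of B) ⟶ Spec (CommRingCat.of H) := x ≫ p'
    have hy : y ≫ p = x := (Category.assoc _ _ _).trans ((congrArg (x ≫ ·) hp).trans (Category.comp_id _))
    let χ₀ : H →+* B := (Spec.preimage y).hom
    have hχ₀ : Spec.map (CommRingCat.ofHom χ₀) = y := Spec.map_preimage y
    have hχ₁ : χ₀.comp (algebraMap k H) = φ.toRingHom := by
      have h3 : Spec.map (CommRingCat.ofHom (χ₀.comp (algebraMap k H))) =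
          Spec.map (CommRingCat.ofHom φ.toRingHom) := by
        rw [CommRingCat.ofHom_comp, Spec.map_comp, hχ₀, ← hpT, ← Category.assoc, hy]
        exact hx1
      exact congrArg CommRingCat.Hom.hom (Spec.map_injective h3)
    let χ : H →ₐ[R] B := { χ₀ with
      commutes' := fun r => by
        rw [IsScalarTower.algebraMap_apply R k H]
        refine (DFunLike.congr_fun hχ₁ (algebraMap R k r)).trans ?_
        exact φ.commutes r }
    refine ⟨χ, AlgHom.ext fun c => DFunLike.congr_fun hχ₁ c, ?_⟩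
    apply (Q.pt B).injective
    rw [Q.nat, MulEquiv.apply_symm_apply]
    ext1
    rw [← hx2]
    change x ≫ _ = Spec.map (CommRingCat.ofHom χ₀) ≫ p ≫ _
    rw [hχ₀, reassoc_of% hy]
    rfl
  · rintro ⟨χ, hχ, rfl⟩
    refine ⟨Spec.map (CommRingCat.ofHom χ.toRingHom) ≫ p, ?_, ?_⟩
    · refine (Category.assoc _ _ _).trans ((congrArg
        (Spec.map (CommRingCat.ofHom χ.toRingHom) ≫ ·) hpT).trans ?_)
      refine (Spec.map_comp _ _).symm.trans ?_
      rw [← hχ]
      rfl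
    · rw [Q.nat, MulEquiv.apply_symm_apply]
      exact Category.assoc _ _ _

/-- **The points of two maximal tori over an algebraically closed field**, affine form. -/
theorem exists_torAt (hG : Red.IsReductive G) {k K B₀ : Type u} [CommRing k] [Algebra R k] [Field K]
    [IsAlgClosed K] [Algebra R K] [CommRing B₀] [Algebra R B₀]
    (D : Red.SplitRed (Red.bc (f₀ R B₀) G)) (b : D.P.Base) (F : RCell D.P b R A B₀)
    (hF : ∀ {B : Type u} [CommRing B] [Algebra R B] (φ : B₀ →ₐ[R] B) (g : Pt R A B)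
        (a : SpecOver R B ⟶ Over.mk (f₀ R B₀))
        (_ : a.left = Spec.map (CommRingCat.ofHom φ.toRingHom)),
        (∃ t : TPt D.M B, g = F.i φ t) ↔ MemAt D.i a (Q.pt B g))
    {T₀ : Over (Spec (CommRingCat.of k))} [GrpObj T₀] (i₀ : T₀ ⟶ Red.bc (f₀ R k) G)
    (h₀ : Red.IsMaximalTorus i₀) (κ₁ : B₀ →ₐ[R] K) (j : k →ₐ[R] K) :
    ∃ g₁ : Pt R A K, ∀ {B : Type u} [CommRing B] [Algebra R B] (φ : K →ₐ[R] B) (h : Pt R A B),
      InSub Q i₀ (φ.comp j) h ↔ F.TorAt (φ.comp κ₁) (Pt.map φ g₁) h := by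
  have e₁ : Spec.map (CommRingCat.ofHom κ₁.toRingHom) ≫ f₀ R B₀ = f₀ R K := by
    rw [f₀, ← Spec.map_comp, ← CommRingCat.ofHom_comp]
    congr 2
    exact κ₁.comp_algebraMap
  have e₂ : Spec.map (CommRingCat.ofHom j.toRingHom) ≫ f₀ R k = f₀ R K := by
    rw [f₀, ← Spec.map_comp, ← CommRingCat.ofHom_comp]
    congr 2
    exact j.comp_algebraMap
  obtain ⟨c, hc⟩ := exists_conj (K := K) hG D.i i₀ D.maximalTorus h₀
    (Spec.map (CommRingCat.ofHom κ₁.toRingHom)) (Spec.map (CommRingCat.ofHom j.toRingHom))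
    (e₂.trans e₁.symm)
  let e : SpecOver R K ⟶ Over.mk (Spec.map (CommRingCat.ofHom κ₁.toRingHom) ≫ f₀ R B₀) :=
    Over.homMk (𝟙 _) ((Category.id_comp _).trans e₁)
  refine ⟨(Q.pt K).symm (e ≫ c), fun {B} _ _ φ h => ?_⟩
  let a : SpecOver R B ⟶ Over.mk (Spec.map (CommRingCat.ofHom κ₁.toRingHom) ≫ f₀ R B₀) :=
    specMap R φ ≫ e
  have ha : a.left = Spec.map (CommRingCat.ofHom φ.toRingHom) := Category.comp_id _
  have h1 : a ≫ c = Q.pt B (Pt.map φ ((Q.pt K).symm (e ≫ c))) := by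
    rw [Q.nat, MulEquiv.apply_symm_apply, Category.assoc]
  have h2 := hc _ a (ovSpec (φ.comp j)) (by
    rw [ha]
    exact Spec.map_comp (CommRingCat.ofHom j.toRingHom) (CommRingCat.ofHom φ.toRingHom)) (Q.pt B h)
  rw [h1, ← map_inv, ← map_mul, ← map_mul] at h2
  refine h2.trans ?_
  rw [← hF (φ.comp κ₁) _ (a ≫ ovq _ _) (by
    rw [Over.comp_left, ha]
    exact (Spec.map_comp (CommRingCat.ofHom κ₁.toRingHom) (CommRingCat.ofHom φ.toRingHom)).symm)]
  refine _root_.exists_congr fun t => ⟨fun h3 => ?_, fun h3 => ?_⟩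
  · rw [← h3]
    group
  · rw [h3]
    group

end pts

end K672.TorConjMem
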